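import Mathlib
import Cfsg.Prelude.Def_Classical
import Cfsg.Agent.Lib.Small.Hermitian

/-!
Elements of `SU_n(q)` for the standard Hermitian form written with a star operation: transvections
and the embedding of small isometry groups along a frame of columns.
-/

set_option autoImplicit false
set_option linter.unusedSectionVars false

namespace Cfsg.Agent.Small.Unitary

open Matrix

variable {F : Type*} [Field F] [StarRing F] {n : ℕ} {q : ℕ}

/-- The standard Hermitian product, semilinear in the first variable. -/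
def herm (u v : Fin n → F) : F := star u ⬝ᵥ v

theorem herm_add_left (u v w : Fin n → F) : herm (u + v) w = herm u w + herm v w := by
  simp [herm, add_dotProduct]

theorem herm_add_right (u v w : Fin n → F) : herm u (v + w) = herm u v + herm u w := by
  simp [herm, dotProduct_add]

theorem herm_sub_left (u v w : Fin n → F) : herm (u - v) w = herm u w - herm v w := by
  simp [herm, sub_dotProduct]

theorem herm_sub_right (u v w : Fin n → F) : herm u (v - w) = herm u v - herm u w := by
  simp [herm, dotProduct_sub]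

theorem herm_smul_left (c : F) (u w : Fin n → F) : herm (c • u) w = star c * herm u w := by
  simp [herm, smul_dotProduct]

theorem herm_smul_right (c : F) (u w : Fin n → F) : herm u (c • w) = c * herm u w := by
  simp [herm, dotProduct_smul]

theorem star_herm (u v : Fin n → F) : star (herm u v) = herm v u := by
  simp [herm, dotProduct, mul_comm]

theorem herm_zero_left (v : Fin n → F) : herm 0 v = 0 := by simp [herm]

theorem herm_zero_right (v : Fin n → F) : herm v 0 = 0 := by simp [herm]

theorem herm_single_left (k : Fin n) (c : F) (v : Fin n → F) :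
    herm (Pi.single k c) v = star c * v k := by
  simp [herm, dotProduct, Pi.single_apply, apply_ite star]

theorem herm_single_right (k : Fin n) (c : F) (v : Fin n → F) :
    herm v (Pi.single k c) = star (v k) * c := by
  simp [herm, dotProduct, Pi.single_apply]

/-- The action on column vectors. -/
def act (g : Cfsg.SU n F q) (v : Fin n → F) : Fin n → F := g.1.1 *ᵥ v

theorem act_one (v : Fin n → F) : act (1 : Cfsg.SU n F q) v = v := Matrix.one_mulVec v

theorem act_mul (g h : Cfsg.SU n F q) (v : Fin n → F) : act (g * h) v = act g (act h v) :=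
  (Matrix.mulVec_mulVec v g.1.1 h.1.1).symm

theorem act_inv_act (g : Cfsg.SU n F q) (v : Fin n → F) : act g⁻¹ (act g v) = v := by
  rw [← act_mul, inv_mul_cancel, act_one]

theorem act_act_inv (g : Cfsg.SU n F q) (v : Fin n → F) : act g (act g⁻¹ v) = v := by
  rw [← act_mul, mul_inv_cancel, act_one]

theorem act_add (g : Cfsg.SU n F q) (u v : Fin n → F) : act g (u + v) = act g u + act g v :=
  Matrix.mulVec_add _ _ _

theorem act_sub (g : Cfsg.SU n F q) (u v : Fin n → F) : act g (u - v) = act g u - act g v :=
  Matrix.mulVec_sub _ _ _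

theorem act_smul (g : Cfsg.SU n F q) (c : F) (u : Fin n → F) : act g (c • u) = c • act g u :=
  Matrix.mulVec_smul _ _ _

theorem act_injective (g : Cfsg.SU n F q) : Function.Injective (act g) := fun u v h => by
  rw [← act_inv_act g u, h, act_inv_act]

theorem eq_one_of_act {g : Cfsg.SU n F q} (h : ∀ k : Fin n, act g (Pi.single k 1) = Pi.single k 1) :
    g = 1 := by
  apply Subtype.ext
  apply Subtype.ext
  ext i k
  have h1 := congrFun (h k) i
  rw [act, Matrix.mulVec_single_one] at h1
  change g.1.1 i k = (1 : Matrix (Fin n) (Fin n) F) i k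
  rw [← Matrix.col_apply g.1.1 k i, h1, Matrix.one_apply, Pi.single_apply]

theorem mem_SU_iff (hstar : ∀ x : F, star x = x ^ q) (g : Matrix.SpecialLinearGroup (Fin n) F) :
    g ∈ Cfsg.SU n F q ↔ (g.1)ᴴ * g.1 = 1 := by
  have hform : ∀ u v : Fin n → F, Cfsg.hermForm n F q u v = herm v u := fun u v => by
    simp [Cfsg.hermForm, herm, dotProduct, hstar, mul_comm]
  constructor
  · intro h
    ext i j
    have h1 := h (Pi.single j 1) (Pi.single i 1)
    change Cfsg.hermForm n F q (g.1 *ᵥ Pi.single j 1) (g.1 *ᵥ Pi.single i 1) =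
      Cfsg.hermForm n F q (Pi.single j 1) (Pi.single i 1) at h1
    rw [hform, hform, Matrix.mulVec_single_one, Matrix.mulVec_single_one, herm_single_left,
      star_one, one_mul, Pi.single_apply] at h1
    rw [Matrix.one_apply, ← h1]
    rfl
  · intro h u v
    change Cfsg.hermForm n F q (g.1 *ᵥ u) (g.1 *ᵥ v) = _
    rw [hform, hform, herm, Matrix.star_mulVec, ← Matrix.dotProduct_mulVec, Matrix.mulVec_mulVec, h,
      Matrix.one_mulVec]
    rfl

theorem conjTranspose_mul_self (hstar : ∀ x : F, star x = x ^ q) (g : Cfsg.SU n F q) :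
    (g.1.1)ᴴ * g.1.1 = 1 :=
  (mem_SU_iff hstar _).mp g.2

theorem herm_act (hstar : ∀ x : F, star x = x ^ q) (g : Cfsg.SU n F q) (u v : Fin n → F) :
    herm (act g u) (act g v) = herm u v := by
  rw [herm, act, act, Matrix.star_mulVec, ← Matrix.dotProduct_mulVec, Matrix.mulVec_mulVec,
    conjTranspose_mul_self hstar, Matrix.one_mulVec]
  rfl

/-! ### Transvections -/

/-- The matrix of `x ↦ x + t ⟨v, x⟩ v`. -/
def transMat (v : Fin n → F) (t : F) : Matrix (Fin n) (Fin n) F :=
  1 + t • Matrix.vecMulVec v (star v)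

theorem transMat_mulVec (v : Fin n → F) (t : F) (x : Fin n → F) :
    transMat v t *ᵥ x = x + (t * herm v x) • v := by
  rw [transMat, Matrix.add_mulVec, Matrix.one_mulVec, Matrix.smul_mulVec, Matrix.vecMulVec_mulVec]
  ext i
  simp [herm, mul_assoc, mul_comm (v i)]

theorem transMat_mul (v : Fin n → F) (hv : herm v v = 0) (s t : F) :
    transMat v s * transMat v t = transMat v (s + t) := by
  have hvv : Matrix.vecMulVec v (star v) * Matrix.vecMulVec v (star v) = 0 := by
    rw [Matrix.vecMulVec_mul_vecMulVec]
    change Matrix.vecMulVec v (herm v v • star v) = 0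
    rw [hv, zero_smul]
    ext i j
    simp [Matrix.vecMulVec]
  simp [transMat, add_mul, mul_add, hvv, add_smul, add_assoc, add_comm]

theorem transMat_det (v : Fin n → F) (hv : herm v v = 0) (t : F) : (transMat v t).det = 1 := by
  rw [transMat, ← Matrix.smul_vecMulVec, Matrix.vecMulVec_eq Unit,
    Matrix.det_one_add_replicateCol_mul_replicateRow, dotProduct_smul]
  change 1 + t • herm v v = 1
  rw [hv, smul_zero, add_zero]

theorem transMat_unitary (v : Fin n → F) (hv : herm v v = 0) {t : F} (ht : star t = -t) :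
    (transMat v t)ᴴ * transMat v t = 1 := by
  have h1 : (transMat v t)ᴴ = transMat v (-t) := by
    simp [transMat, Matrix.conjTranspose_vecMulVec, ht]
  rw [h1, transMat_mul v hv, neg_add_cancel, transMat, zero_smul, add_zero]

/-- An element of `SU` from a unitary matrix of determinant one. -/
def mkSU (hstar : ∀ x : F, star x = x ^ q) (M : Matrix (Fin n) (Fin n) F) (hM : Mᴴ * M = 1)
    (hd : M.det = 1) : Cfsg.SU n F q :=
  ⟨⟨M, hd⟩, (mem_SU_iff hstar _).mpr hM⟩

/-- The transvection along an isotropic vector. -/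
def trans (hstar : ∀ x : F, star x = x ^ q) (v : Fin n → F) (hv : herm v v = 0) (t : F)
    (ht : star t = -t) : Cfsg.SU n F q :=
  mkSU hstar (transMat v t) (transMat_unitary v hv ht) (transMat_det v hv t)

theorem act_trans (hstar : ∀ x : F, star x = x ^ q) (v : Fin n → F) (hv : herm v v = 0) (t : F)
    (ht : star t = -t) (x : Fin n → F) :
    act (trans hstar v hv t ht) x = x + (t * herm v x) • v :=
  transMat_mulVec v t x

theorem conj_trans (hstar : ∀ x : F, star x = x ^ q) (g : Cfsg.SU n F q) (v : Fin n → F)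
    (hv : herm v v = 0) (t : F) (ht : star t = -t) :
    g * trans hstar v hv t ht * g⁻¹ =
      trans hstar (act g v) (by rw [herm_act hstar]; exact hv) t ht := by
  apply mul_inv_eq_iff_eq_mul.mpr
  apply Subtype.ext
  apply Subtype.ext
  ext i k
  have h1 : ∀ x, act (g * trans hstar v hv t ht) x =
      act (trans hstar (act g v) (by rw [herm_act hstar]; exact hv) t ht * g) x := by
    intro x
    rw [act_mul, act_mul, act_trans, act_trans, act_add, act_smul, herm_act hstar]
  have h2 := congrFun (h1 (Pi.single k 1)) i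
  rw [act, act, Matrix.mulVec_single_one, Matrix.mulVec_single_one] at h2
  exact h2

/-! ### Embedding along a frame -/

variable {m : Type*} [Fintype m] [DecidableEq m]

/-- The extension of `M` on the span of the columns of `U` by the identity; `V * U = 1`. -/
def embed (U : Matrix (Fin n) m F) (V : Matrix m (Fin n) F) (M : Matrix m m F) :
    Matrix (Fin n) (Fin n) F :=
  1 + U * (M - 1) * V

theorem embed_mul (U : Matrix (Fin n) m F) (V : Matrix m (Fin n) F) (hVU : V * U = 1)
    (M N : Matrix m m F) : embed U V M * embed U V N = embed U V (M * N) := by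
  have h1 : U * (M - 1) * V * (U * (N - 1) * V) = U * ((M - 1) * (N - 1)) * V := by
    calc U * (M - 1) * V * (U * (N - 1) * V)
        = U * (M - 1) * (V * U) * (N - 1) * V := by simp only [Matrix.mul_assoc]
      _ = U * ((M - 1) * (N - 1)) * V := by rw [hVU, Matrix.mul_one, Matrix.mul_assoc U]
  have h2 : (M - 1) + (N - 1) + (M - 1) * (N - 1) = M * N - 1 := by noncomm_ring
  unfold embed
  rw [add_mul, one_mul, mul_add, mul_one, h1, ← h2]
  simp only [Matrix.mul_add, Matrix.add_mul]
  abel

theorem embed_det (U : Matrix (Fin n) m F) (V : Matrix m (Fin n) F) (hVU : V * U = 1)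
    (M : Matrix m m F) : (embed U V M).det = M.det := by
  rw [embed, Matrix.mul_assoc, Matrix.det_one_add_mul_comm, Matrix.mul_assoc, hVU, Matrix.mul_one,
    add_sub_cancel]

theorem embed_conjTranspose (U : Matrix (Fin n) m F) (J : Matrix m m F) (hJ : Jᴴ = J)
    (hJJ : J * J = 1) (M : Matrix m m F) :
    (embed U (J * Uᴴ) M)ᴴ = embed U (J * Uᴴ) (J * Mᴴ * J) := by
  unfold embed
  have h : J * Mᴴ * J - 1 = J * (Mᴴ - 1) * J := by
    rw [Matrix.mul_sub, Matrix.sub_mul, Matrix.mul_one, hJJ]
  rw [h]
  simp only [Matrix.conjTranspose_add, Matrix.conjTranspose_one, Matrix.conjTranspose_mul,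
    Matrix.conjTranspose_sub, Matrix.conjTranspose_conjTranspose, hJ]
  congr 1
  calc U * J * ((Mᴴ - 1) * Uᴴ) = U * (J * (Mᴴ - 1) * (J * J)) * Uᴴ := by
        rw [hJJ, Matrix.mul_one]; simp only [Matrix.mul_assoc]
    _ = _ := by simp only [Matrix.mul_assoc]

theorem embed_unitary (U : Matrix (Fin n) m F) (J : Matrix m m F) (hJ : Jᴴ = J) (hJJ : J * J = 1)
    (hU : Uᴴ * U = J) (M : Matrix m m F) (hM : Mᴴ * J * M = J) :
    (embed U (J * Uᴴ) M)ᴴ * embed U (J * Uᴴ) M = 1 := by
  have hVU : J * Uᴴ * U = 1 := by rw [Matrix.mul_assoc, hU, hJJ]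
  rw [embed_conjTranspose U J hJ hJJ, embed_mul U _ hVU, Matrix.mul_assoc, Matrix.mul_assoc,
    ← Matrix.mul_assoc Mᴴ J M, hM, hJJ, embed, sub_self, Matrix.mul_zero, Matrix.zero_mul,
    add_zero]

/-- A small isometry as an element of `SU`. -/
def emb (hstar : ∀ x : F, star x = x ^ q) (U : Matrix (Fin n) m F) (J : Matrix m m F) (hJ : Jᴴ = J)
    (hJJ : J * J = 1) (hU : Uᴴ * U = J) (M : Matrix m m F) (hM : Mᴴ * J * M = J)
    (hd : M.det = 1) : Cfsg.SU n F q :=
  mkSU hstar (embed U (J * Uᴴ) M) (embed_unitary U J hJ hJJ hU M hM)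
    (by rw [embed_det U _ (by rw [Matrix.mul_assoc, hU, hJJ])]; exact hd)

end Cfsg.Agent.Small.Unitary
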