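import Mathlib
import Cfsg.Agent.Lib.Small.Unitary.Basic

/-!
A normal subgroup of `SU_n(q)`, `n ≥ 3`, `(n, q) ≠ (3, 2)`, containing all the transvections along
one isotropic vector is the whole group.
-/

set_option autoImplicit false
set_option linter.unusedSectionVars false

namespace Cfsg.Agent.Small.Unitary

open Matrix

variable {F : Type*} [Field F] [Fintype F] [StarRing F] {n : ℕ} {q : ℕ}

/-! ### The field -/

theorem exists_trace (hstar : ∀ x : F, star x = x ^ q) (hF : Fintype.card F = q ^ 2) {r : F}
    (hr : star r = r) : ∃ c : F, c + star c = r := by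
  obtain ⟨c, hc⟩ := Hermitian.exists_trace_ne hstar hF (one_ne_zero (α := F))
  rw [mul_one, star_star] at hc
  refine ⟨r / (star c + c) * star c, ?_⟩
  have h1 : star (r / (star c + c) * star c) = r / (star c + c) * c := by
    rw [star_mul', star_div₀, hr, star_add, star_star, add_comm c]
  rw [h1, ← mul_add, div_mul_cancel₀ _ hc]

theorem exists_skew (hstar : ∀ x : F, star x = x ^ q) (hF : Fintype.card F = q ^ 2) :
    ∃ θ : F, θ ≠ 0 ∧ star θ = -θ := by
  obtain ⟨b, hb⟩ := Hermitian.exists_star_ne hstar hF
  refine ⟨b - star b, sub_ne_zero.mpr (Ne.symm hb), ?_⟩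
  rw [star_sub, star_star, neg_sub]

theorem exists_norm_one_ne (hstar : ∀ x : F, star x = x ^ q) (hF : Fintype.card F = q ^ 2) :
    ∃ ζ : F, ζ ≠ 1 ∧ star ζ * ζ = 1 := by
  obtain ⟨b, hb⟩ := Hermitian.exists_star_ne hstar hF
  have hb0 : b ≠ 0 := fun h => hb (by rw [h, star_zero])
  refine ⟨star b / b, fun h => hb (div_eq_one_iff_eq hb0 |>.mp h), ?_⟩
  rw [star_div₀, star_star, div_mul_div_comm, mul_comm (star b) b, div_self]
  exact mul_ne_zero hb0 (star_ne_zero.mpr hb0)

theorem exists_neg_norm (hstar : ∀ x : F, star x = x ^ q) (hF : Fintype.card F = q ^ 2) {r : F}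
    (hr : star r = r) : ∃ d : F, star d * d = r := by
  by_cases h : r = 0
  · exact ⟨0, by simp [h]⟩
  · obtain ⟨c, -, hc⟩ := Hermitian.exists_norm hstar hF h hr
    exact ⟨c, hc⟩

/-! ### Supports and the subgroups fixing the outside of a set of coordinates -/

/-- Supported in `I`. -/
def Supp (I : Finset (Fin n)) (v : Fin n → F) : Prop := ∀ k, k ∉ I → v k = 0

theorem Supp.add {I : Finset (Fin n)} {u v : Fin n → F} (hu : Supp I u) (hv : Supp I v) :
    Supp I (u + v) := fun k hk => by simp [hu k hk, hv k hk]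

theorem Supp.sub {I : Finset (Fin n)} {u v : Fin n → F} (hu : Supp I u) (hv : Supp I v) :
    Supp I (u - v) := fun k hk => by simp [hu k hk, hv k hk]

theorem Supp.smul {I : Finset (Fin n)} {u : Fin n → F} (c : F) (hu : Supp I u) :
    Supp I (c • u) := fun k hk => by simp [hu k hk]

theorem Supp.single {I : Finset (Fin n)} {k : Fin n} (hk : k ∈ I) (c : F) :
    Supp I (Pi.single k c) := fun j hj => Pi.single_eq_of_ne (fun h => hj (by rw [h]; exact hk)) _

/-- Fixing the standard vectors outside `I`. -/
def fixOut (q : ℕ) (I : Finset (Fin n)) : Subgroup (Cfsg.SU n F q) where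
  carrier := {g | ∀ k, k ∉ I → act g (Pi.single k 1) = Pi.single k 1}
  one_mem' := fun k _ => act_one _
  mul_mem' := fun {a b} ha hb k hk => by rw [act_mul, hb k hk, ha k hk]
  inv_mem' := fun {a} ha k hk => by
    conv_lhs => rw [← ha k hk]
    rw [act_inv_act]

theorem act_supp (hstar : ∀ x : F, star x = x ^ q) {I : Finset (Fin n)} {g : Cfsg.SU n F q}
    (hg : g ∈ fixOut q I) {v : Fin n → F} (hv : Supp I v) : Supp I (act g v) := fun k hk => by
  have h1 := herm_act hstar g (Pi.single k 1) v
  rw [hg k hk, herm_single_left, herm_single_left, star_one, one_mul, one_mul] at h1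
  rw [h1, hv k hk]

theorem trans_mem_fixOut (hstar : ∀ x : F, star x = x ^ q) {I : Finset (Fin n)} {v : Fin n → F}
    (hv : herm v v = 0) (hs : Supp I v) {t : F} (ht : star t = -t) :
    trans hstar v hv t ht ∈ fixOut q I := fun k hk => by
  rw [act_trans, herm_single_right, hs k hk]
  simp

theorem eq_one_of_fixOut {g : Cfsg.SU n F q} (hg : g ∈ fixOut q (∅ : Finset (Fin n))) : g = 1 :=
  eq_one_of_act fun k => hg k (Finset.notMem_empty k)

/-- Some element of `N` supported on `I` moves `u` to `v`. -/
def Moves (N : Subgroup (Cfsg.SU n F q)) (I : Finset (Fin n)) (u v : Fin n → F) : Prop :=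
  ∃ x ∈ N, x ∈ fixOut q I ∧ act x u = v

theorem Moves.symm {N : Subgroup (Cfsg.SU n F q)} {I : Finset (Fin n)} {u v : Fin n → F}
    (h : Moves N I u v) : Moves N I v u := by
  obtain ⟨x, hx, hx', rfl⟩ := h
  exact ⟨x⁻¹, inv_mem hx, inv_mem hx', act_inv_act _ _⟩

theorem Moves.comp {N : Subgroup (Cfsg.SU n F q)} {I : Finset (Fin n)} {u v w : Fin n → F}
    (h : Moves N I u v) (h' : Moves N I v w) : Moves N I u w := by
  obtain ⟨x, hx, hx', rfl⟩ := h
  obtain ⟨y, hy, hy', rfl⟩ := h'
  exact ⟨y * x, mul_mem hy hx, mul_mem hy' hx', act_mul _ _ _⟩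

theorem Moves.scale {N : Subgroup (Cfsg.SU n F q)} {I : Finset (Fin n)} {u v : Fin n → F}
    (h : Moves N I u v) (c : F) : Moves N I (c • u) (c • v) := by
  obtain ⟨x, hx, hx', rfl⟩ := h
  exact ⟨x, hx, hx', act_smul _ _ _⟩

/-- `N` contains every transvection. -/
def HasTrans (hstar : ∀ x : F, star x = x ^ q) (N : Subgroup (Cfsg.SU n F q)) : Prop :=
  ∀ (v : Fin n → F) (hv : herm v v = 0) (t : F) (ht : star t = -t), trans hstar v hv t ht ∈ N

variable {hstar : ∀ x : F, star x = x ^ q} {N : Subgroup (Cfsg.SU n F q)}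

theorem moves_line (hN : HasTrans hstar N) {I : Finset (Fin n)} {u v : Fin n → F}
    (hu : herm u u = 0) (hsu : Supp I u) (hv : herm v v = 0) (hsv : Supp I v)
    (hc : herm v u ≠ 0) {t : F} (ht0 : t ≠ 0) (ht : star t = -t) :
    Moves N I u ((t * herm v u) • v) := by
  set c := herm v u with hcdef
  have hs : star (-(t * star c * c)⁻¹) = -(-(t * star c * c)⁻¹) := by
    rw [star_neg, star_inv₀, star_mul', star_mul', star_star, ht]
    rw [show -t * c * star c = -(t * star c * c) by ring, inv_neg]
  refine ⟨trans hstar u hu _ hs * trans hstar v hv t ht, mul_mem (hN _ _ _ _) (hN _ _ _ _),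
    mul_mem (trans_mem_fixOut hstar _ hsu _) (trans_mem_fixOut hstar _ hsv _), ?_⟩
  rw [act_mul, act_trans, act_trans, herm_add_right, hu, herm_smul_right, ← star_herm v u,
    ← hcdef]
  have hne : t * star c * c ≠ 0 := mul_ne_zero (mul_ne_zero ht0 (star_ne_zero.mpr hc)) hc
  have e : -(t * star c * c)⁻¹ * (0 + t * c * star c) = -1 := by
    rw [zero_add, neg_mul, neg_inj, show t * c * star c = t * star c * c by ring,
      inv_mul_cancel₀ hne]
  rw [e]
  module

/-! ### A hyperbolic pair on two coordinates -/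

/-- A hyperbolic pair spanning the coordinates `i`, `j`. -/
structure Pair (i j : Fin n) (e f : Fin n → F) : Prop where
  ne : i ≠ j
  supp_e : Supp {i, j} e
  supp_f : Supp {i, j} f
  ee : herm e e = 0
  ff : herm f f = 0
  ef : herm e f = 1
  zero : ∀ z : Fin n → F, herm e z = 0 → herm f z = 0 → z i = 0 ∧ z j = 0

theorem Pair.fe {i j : Fin n} {e f : Fin n → F} (P : Pair i j e f) : herm f e = 1 := by
  rw [← star_herm, P.ef, star_one]

theorem exists_pair (hstar : ∀ x : F, star x = x ^ q) (hF : Fintype.card F = q ^ 2) {i j : Fin n}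
    (hij : i ≠ j) : ∃ e f : Fin n → F, Pair i j e f := by
  obtain ⟨a, ha⟩ := exists_neg_norm hstar hF (r := -1) (by simp)
  obtain ⟨ζ, hζ1, hζ⟩ := exists_norm_one_ne hstar hF
  set b := ζ * a with hb
  have hbb : star b * b = -1 := by
    rw [hb, star_mul', mul_mul_mul_comm, hζ, ha, one_mul]
  have ha0 : a ≠ 0 := fun h => by simp [h] at ha
  set d := 1 + star a * b with hd
  have hd0 : d ≠ 0 := by
    intro h
    have : star a * (b - a) = 0 := by linear_combination h - ha
    rcases mul_eq_zero.mp this with h1 | h1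
    · exact ha0 (star_eq_zero.mp h1)
    · rw [hb, sub_eq_zero] at h1
      exact hζ1 (mul_right_cancel₀ ha0 (by rw [h1, one_mul]))
  let e : Fin n → F := Pi.single i 1 + Pi.single j a
  let f : Fin n → F := d⁻¹ • (Pi.single i 1 + Pi.single j b)
  have hsum : ∀ x y : F, ∀ z : Fin n → F,
      herm (Pi.single i x + Pi.single j y : Fin n → F) z = star x * z i + star y * z j := by
    intro x y z
    rw [herm_add_left, herm_single_left, herm_single_left]
  have hv : ∀ y : F, (Pi.single i 1 + Pi.single j y : Fin n → F) i = 1 ∧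
      (Pi.single i 1 + Pi.single j y : Fin n → F) j = y := fun y => by
    simp [hij, hij.symm]
  refine ⟨e, f, hij, ?_, ?_, ?_, ?_, ?_, ?_⟩
  · exact (Supp.single (by simp) _).add (Supp.single (by simp) _)
  · exact ((Supp.single (by simp) _).add (Supp.single (by simp) _)).smul _
  · simp only [e, hsum, (hv a).1, (hv a).2, star_one, one_mul, ha]
    ring
  · simp only [f, herm_smul_left, herm_smul_right, hsum, (hv b).1, (hv b).2, star_one, one_mul,
      hbb]
    ring
  · rw [show f = d⁻¹ • (Pi.single i 1 + Pi.single j b) from rfl, herm_smul_right]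
    simp only [e, hsum, (hv b).1, (hv b).2, star_one, one_mul]
    exact inv_mul_cancel₀ hd0
  · intro z h1 h2
    simp only [e, hsum, star_one, one_mul] at h1
    simp only [f, herm_smul_left, hsum, star_one, one_mul, mul_eq_zero,
      star_eq_zero, inv_eq_zero, hd0, false_or] at h2
    have h3 : (star a - star b) * z j = 0 := by linear_combination h1 - h2
    rcases mul_eq_zero.mp h3 with h4 | h4
    · exfalso
      have : a = b := star_injective (sub_eq_zero.mp h4)
      exact hζ1 (mul_right_cancel₀ ha0 (by rw [← hb, ← this, one_mul]))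
    · rw [h4, mul_zero, add_zero] at h1
      exact ⟨h1, h4⟩

variable {I : Finset (Fin n)} {i j : Fin n} {e f : Fin n → F}

theorem supp_pair (hi : i ∈ I) (hj : j ∈ I) {v : Fin n → F} (hv : Supp {i, j} v) : Supp I v :=
  fun k hk => hv k (by
    simp only [Finset.mem_insert, Finset.mem_singleton]
    rintro (rfl | rfl) <;> contradiction)

/-- Decomposition of a vector along the pair. -/
theorem Pair.decompose (P : Pair i j e f) (hi : i ∈ I) (hj : j ∈ I) {v : Fin n → F}
    (hv : Supp I v) : Supp (I \ {i, j}) (v - herm f v • e - herm e v • f) := by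
  intro k hk
  set z := v - herm f v • e - herm e v • f with hz
  have h1 : herm e z = 0 := by
    simp [hz, herm_sub_right, herm_smul_right, P.ee, P.ef]
  have h2 : herm f z = 0 := by
    simp [hz, herm_sub_right, herm_smul_right, P.ff, P.fe]
  obtain ⟨hzi, hzj⟩ := P.zero z h1 h2
  by_cases hki : k = i
  · rw [hki]; exact hzi
  by_cases hkj : k = j
  · rw [hkj]; exact hzj
  have hkI : k ∉ I := fun h => hk (by simp [h, hki, hkj])
  exact ((hv.sub ((supp_pair hi hj P.supp_e).smul _)).sub ((supp_pair hi hj P.supp_f).smul _)) k hkI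

theorem Pair.perp (P : Pair i j e f) {z : Fin n → F} (hz : Supp (I \ {i, j}) z) :
    herm e z = 0 ∧ herm f z = 0 := by
  have key : ∀ v : Fin n → F, Supp {i, j} v → herm v z = 0 := by
    intro v hv
    change ∑ k, star (v k) * z k = 0
    refine Finset.sum_eq_zero fun k _ => ?_
    by_cases hk : k ∈ ({i, j} : Finset (Fin n))
    · simp [hz k (fun h => (Finset.mem_sdiff.mp h).2 hk)]
    · simp [hv k hk]
  exact ⟨key e P.supp_e, key f P.supp_f⟩

/-- An element fixing the pair fixes both coordinates. -/
theorem Pair.fix (P : Pair i j e f) {g : Cfsg.SU n F q} (he : act g e = e) (hf : act g f = f) :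
    act g (Pi.single i 1) = Pi.single i 1 ∧ act g (Pi.single j 1) = Pi.single j 1 := by
  have key : ∀ v : Fin n → F, Supp {i, j} v → act g v = v := by
    intro v hv
    have hz : v - herm f v • e - herm e v • f = 0 := by
      have h1 := P.decompose (I := {i, j}) (by simp) (by simp) hv
      funext k
      exact h1 k (by simp)
    rw [sub_sub, sub_eq_zero] at hz
    rw [hz, act_add, act_smul, act_smul, he, hf]
  exact ⟨key _ (Supp.single (by simp) _), key _ (Supp.single (by simp) _)⟩

/-! ### Transitivity on isotropic vectors -/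

theorem moves_scalar (hF : Fintype.card F = q ^ 2) (hN : HasTrans hstar N) (P : Pair i j e f)
    (hi : i ∈ I) (hj : j ∈ I) {k : Fin n} (hk : k ∈ I \ {i, j}) {c : F} (hc : c ≠ 0) :
    Moves N I e (c • e) := by
  obtain ⟨θ, hθ0, hθ⟩ := exists_skew hstar hF
  set x := c / (θ * θ * θ) with hx
  have hx0 : x ≠ 0 := div_ne_zero hc (mul_ne_zero (mul_ne_zero hθ0 hθ0) hθ0)
  obtain ⟨d, hd⟩ := exists_neg_norm hstar hF (r := -(x + star x))
    (by rw [star_neg, star_add, star_star, add_comm])
  let w : Fin n → F := e + x • f + Pi.single k d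
  have hsd : Supp (I \ {i, j}) (Pi.single k d : Fin n → F) := Supp.single hk d
  obtain ⟨hek, hfk⟩ := P.perp hsd
  have hke : herm (Pi.single k d : Fin n → F) e = 0 := by rw [← star_herm, hek, star_zero]
  have hkf : herm (Pi.single k d : Fin n → F) f = 0 := by rw [← star_herm, hfk, star_zero]
  have hse := supp_pair hi hj P.supp_e
  have hsf := supp_pair hi hj P.supp_f
  have hsw : Supp I w := (hse.add (hsf.smul x)).add (Supp.single (Finset.mem_sdiff.mp hk).1 d)
  have hew : herm e w = x := by
    simp [w, herm_add_right, herm_smul_right, P.ee, P.ef, hek]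
  have hwf : herm w f = 1 := by
    simp [w, herm_add_left, herm_smul_left, P.ff, P.ef, hkf]
  have hkk : herm (Pi.single k d : Fin n → F) (Pi.single k d) = star d * d := by
    rw [herm_single_left, Pi.single_eq_same]
  have hww : herm w w = 0 := by
    simp only [w, herm_add_left, herm_add_right, herm_smul_left, herm_smul_right, P.ee, P.ff, P.ef,
      P.fe, hek, hfk, hke, hkf, hkk, hd]
    ring
  have s1 := moves_line hN P.ee hse P.ff hsf (t := θ) (by rw [P.fe]; exact one_ne_zero) hθ0 hθ
  have s2 := moves_line hN P.ff hsf hww hsw (t := θ) (by rw [hwf]; exact one_ne_zero) hθ0 hθ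
  have s3 := moves_line hN hww hsw P.ee hse (t := θ) (by rw [hew]; exact hx0) hθ0 hθ
  rw [P.fe, mul_one] at s1
  rw [hwf, mul_one] at s2
  rw [hew] at s3
  have h := (s1.comp (s2.scale θ)).comp (((s3.scale θ).scale θ))
  rw [smul_smul, smul_smul] at h
  convert h using 2
  rw [hx]
  field_simp

theorem moves_to_e (hF : Fintype.card F = q ^ 2) (hN : HasTrans hstar N) (P : Pair i j e f)
    (hi : i ∈ I) (hj : j ∈ I) {k : Fin n} (hk : k ∈ I \ {i, j}) {u : Fin n → F} (hu0 : u ≠ 0)
    (hu : herm u u = 0) (hsu : Supp I u) : Moves N I u e := by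
  obtain ⟨θ, hθ0, hθ⟩ := exists_skew hstar hF
  have hse := supp_pair hi hj P.supp_e
  have hsf := supp_pair hi hj P.supp_f
  suffices h : ∃ c : F, c ≠ 0 ∧ Moves N I u (c • e) by
    obtain ⟨c, hc, h⟩ := h
    exact h.comp (moves_scalar hF hN P hi hj hk hc).symm
  by_cases h1 : herm e u = 0
  swap
  · exact ⟨_, mul_ne_zero hθ0 h1, moves_line hN hu hsu P.ee hse h1 hθ0 hθ⟩
  by_cases h2 : herm f u = 0
  swap
  · have s1 := moves_line hN hu hsu P.ff hsf h2 hθ0 hθ
    have s2 := moves_line hN P.ff hsf P.ee hse (by rw [P.ef]; exact one_ne_zero) hθ0 hθ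
    have h := s1.comp (s2.scale (θ * herm f u))
    rw [P.ef, mul_one, smul_smul] at h
    exact ⟨_, mul_ne_zero (mul_ne_zero hθ0 h2) hθ0, h⟩
  have hz := P.decompose hi hj hsu
  rw [h1, h2, zero_smul, zero_smul, sub_zero, sub_zero] at hz
  obtain ⟨m, hm⟩ : ∃ m, u m ≠ 0 := Function.ne_iff.mp hu0
  have hmI : m ∈ I \ {i, j} := by
    by_contra h
    exact hm (hz m h)
  obtain ⟨a, ha⟩ := exists_trace hstar hF (r := (-1 : F)) (by simp)
  let w : Fin n → F := a • e + f + Pi.single m 1
  have hsd : Supp (I \ {i, j}) (Pi.single m 1 : Fin n → F) := Supp.single hmI 1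
  obtain ⟨hek, hfk⟩ := P.perp hsd
  have hke : herm (Pi.single m 1 : Fin n → F) e = 0 := by rw [← star_herm, hek, star_zero]
  have hkf : herm (Pi.single m 1 : Fin n → F) f = 0 := by rw [← star_herm, hfk, star_zero]
  have hkk : herm (Pi.single m 1 : Fin n → F) (Pi.single m 1) = 1 := by
    rw [herm_single_left, Pi.single_eq_same, star_one, one_mul]
  have hww : herm w w = 0 := by
    simp only [w, herm_add_left, herm_add_right, herm_smul_left, herm_smul_right, P.ee, P.ff, P.ef,
      P.fe, hek, hfk, hke, hkf, hkk]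
    linear_combination ha
  have hwu : herm w u = u m := by
    simp [w, herm_add_left, herm_smul_left, h1, h2, herm_single_left]
  have hew : herm e w = 1 := by
    simp [w, herm_add_right, herm_smul_right, P.ee, P.ef, hek]
  have hsw : Supp I w := ((hse.smul a).add hsf).add (Supp.single (Finset.mem_sdiff.mp hmI).1 1)
  have s1 := moves_line hN hu hsu hww hsw (by rw [hwu]; exact hm) hθ0 hθ
  have s2 := moves_line hN hww hsw P.ee hse (by rw [hew]; exact one_ne_zero) hθ0 hθ
  have h := s1.comp (s2.scale (θ * herm w u))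
  rw [hew, mul_one, smul_smul, hwu] at h
  exact ⟨_, mul_ne_zero (mul_ne_zero hθ0 hm) hθ0, h⟩

/-! ### The stabiliser of an isotropic vector -/

/-- A translation `f ↦ f + z` modulo `e` realised in `N`. -/
def Eich (N : Subgroup (Cfsg.SU n F q)) (I : Finset (Fin n)) (e f z : Fin n → F) : Prop :=
  ∃ x ∈ N, x ∈ fixOut q I ∧ act x e = e ∧
    (∀ y, Supp I y → herm e y = 0 → ∃ b : F, act x y = y + b • e) ∧
    ∃ a : F, act x f = f + a • e + z

theorem Eich.zero : Eich N I e f 0 :=
  ⟨1, one_mem _, one_mem _, act_one _, fun y _ _ => ⟨0, by rw [act_one, zero_smul, add_zero]⟩, 0,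
    by rw [act_one, zero_smul, add_zero, add_zero]⟩

theorem Eich.add {z z' : Fin n → F} (h : Eich N I e f z) (h' : Eich N I e f z')
    (hs : Supp I z') (hp : herm e z' = 0) : Eich N I e f (z + z') := by
  obtain ⟨x, hx, hxI, hxe, hxy, a, hxf⟩ := h
  obtain ⟨x', hx', hxI', hxe', hxy', a', hxf'⟩ := h'
  refine ⟨x * x', mul_mem hx hx', mul_mem hxI hxI', by rw [act_mul, hxe', hxe], fun y hy hy0 => ?_,
    ?_⟩
  · obtain ⟨b', hb'⟩ := hxy' y hy hy0
    obtain ⟨b, hb⟩ := hxy y hy hy0
    refine ⟨b + b', ?_⟩
    rw [act_mul, hb', act_add, act_smul, hxe, hb, add_smul, add_assoc]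
  · obtain ⟨b, hb⟩ := hxy z' hs hp
    refine ⟨a + a' + b, ?_⟩
    rw [act_mul, hxf', act_add, act_add, act_smul, hxe, hxf, hb]
    module

theorem eich_isotropic (hF : Fintype.card F = q ^ 2) (hN : HasTrans hstar N) (P : Pair i j e f)
    (hi : i ∈ I) (hj : j ∈ I) {z : Fin n → F} (hz : Supp (I \ {i, j}) z) (hzz : herm z z = 0) :
    Eich N I e f z := by
  obtain ⟨θ, hθ0, hθ⟩ := exists_skew hstar hF
  let z0 : Fin n → F := θ⁻¹ • z
  have hz0def : z0 = θ⁻¹ • z := rfl
  have hz0 : Supp (I \ {i, j}) z0 := hz.smul _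
  have hsz : Supp I z0 := fun k hk => hz0 k (fun h => hk (Finset.mem_sdiff.mp h).1)
  obtain ⟨hez, hfz⟩ := P.perp hz0
  have hze : herm z0 e = 0 := by rw [← star_herm, hez, star_zero]
  have hzf : herm z0 f = 0 := by rw [← star_herm, hfz, star_zero]
  have hzz0 : herm z0 z0 = 0 := by simp [z0, herm_smul_left, herm_smul_right, hzz]
  clear_value z0
  have hww : herm (e + z0) (e + z0) = 0 := by
    simp [herm_add_left, herm_add_right, P.ee, hez, hze, hzz0]
  have hnθ : star (-θ) = -(-θ) := by rw [star_neg, hθ]
  have hse := supp_pair hi hj P.supp_e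
  refine ⟨trans hstar (e + z0) hww θ hθ * trans hstar z0 hzz0 (-θ) hnθ, mul_mem (hN _ _ _ _)
    (hN _ _ _ _), mul_mem (trans_mem_fixOut hstar _ (hse.add hsz) _)
    (trans_mem_fixOut hstar _ hsz _), ?_, fun y hy hy0 => ?_, ?_⟩
  · simp [act_mul, act_trans, hze, P.ee, herm_add_left, herm_add_right]
  · refine ⟨θ * herm z0 y, ?_⟩
    rw [act_mul, act_trans, act_trans, herm_add_left, herm_add_right, herm_add_right,
      herm_smul_right, herm_smul_right, hy0, hez, hzz0]
    module
  · refine ⟨θ, ?_⟩
    rw [act_mul, act_trans, act_trans, hzf, mul_zero, zero_smul, add_zero, herm_add_left, P.ef, hzf,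
      add_zero, mul_one, smul_add, add_assoc]
    congr 2
    simp [hz0def, smul_smul, hθ0]

theorem eich_all (hF : Fintype.card F = q ^ 2) (hN : HasTrans hstar N) (P : Pair i j e f)
    (hi : i ∈ I) (hj : j ∈ I) (h2 : 2 ≤ (I \ {i, j}).card) {z : Fin n → F}
    (hz : Supp (I \ {i, j}) z) : Eich N I e f z := by
  obtain ⟨ζ, hζ1, hζ⟩ := exists_norm_one_ne hstar hF
  have hsingle : ∀ k ∈ I \ {i, j}, ∀ c : F, Eich N I e f (Pi.single k c) := by
    intro k hk c
    obtain ⟨l, hl, hlk⟩ := Finset.exists_mem_ne (s := I \ {i, j}) (by omega) k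
    set c' := c / (1 - ζ) with hc'
    obtain ⟨d, hd⟩ := exists_neg_norm hstar hF (r := -(star c' * c'))
      (by rw [star_neg, star_mul', star_star, mul_comm])
    have hiso : ∀ x y : F, star x * x + star y * y = 0 →
        herm (Pi.single k x + Pi.single l y : Fin n → F) (Pi.single k x + Pi.single l y) = 0 := by
      intro x y h
      simp [herm_add_left, herm_add_right, herm_single_left, hlk, hlk.symm, h]
    have h1 := eich_isotropic hF hN P hi hj
      ((Supp.single hk c').add (Supp.single hl d)) (hiso _ _ (by rw [hd, add_neg_cancel]))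
    have h2 := eich_isotropic hF hN P hi hj
      ((Supp.single hk (-(ζ * c'))).add (Supp.single hl (-d))) (hiso _ _ (by
        rw [star_neg, star_neg, star_mul', neg_mul_neg, neg_mul_neg, mul_mul_mul_comm, hζ, one_mul,
          hd, add_neg_cancel]))
    have hs := (Supp.single hk (-(ζ * c'))).add (Supp.single hl (-d))
    have h3 := h1.add h2 (fun m hm => hs m (fun h => hm (Finset.mem_sdiff.mp h).1)) (P.perp hs).1
    convert h3 using 1
    rw [add_add_add_comm, ← Pi.single_add, ← Pi.single_add, add_neg_cancel, Pi.single_zero,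
      add_zero]
    congr 1
    rw [hc']
    field_simp [sub_ne_zero.mpr (Ne.symm hζ1)]
    ring
  have key : ∀ s : Finset (Fin n), s ⊆ I \ {i, j} →
      Eich N I e f (∑ k ∈ s, Pi.single k (z k)) := by
    intro s
    induction s using Finset.induction_on with
    | empty => intro _; rw [Finset.sum_empty]; exact Eich.zero
    | insert a s ha ih =>
      intro hs
      have hsum : Supp (I \ {i, j}) (∑ k ∈ s, Pi.single k (z k)) := fun m hm => by
        rw [Finset.sum_apply]
        refine Finset.sum_eq_zero fun k hk => Pi.single_eq_of_ne ?_ _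
        rintro rfl
        exact hm (hs (Finset.mem_insert_of_mem hk))
      rw [Finset.sum_insert ha]
      exact (hsingle a (hs (Finset.mem_insert_self a s)) _).add
        (ih fun x hx => hs (Finset.mem_insert_of_mem hx))
        (fun m hm => hsum m (fun h => hm (Finset.mem_sdiff.mp h).1)) (P.perp hsum).1
  have hze : (∑ k ∈ I \ {i, j}, Pi.single k (z k)) = z := by
    funext m
    rw [Finset.sum_apply, Finset.sum_pi_single]
    split_ifs with h
    · rfl
    · exact (hz m h).symm
  have := key _ subset_rfl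
  rwa [hze] at this

set_option maxHeartbeats 4000000 in
/-- Three coordinates in dimension three. -/
theorem eich_three (hn3 : n = 3) (hF : Fintype.card F = q ^ 2) (hq : q ≠ 2) [hNn : N.Normal]
    (hN : HasTrans hstar N) (P : Pair i j e f) {z : Fin n → F}
    (hz : Supp (Finset.univ \ {i, j}) z) : Eich N Finset.univ e f z := by
  classical
  have huniv : (Finset.univ \ {i, j} : Finset (Fin n)).card = 1 := by
    rw [Finset.card_sdiff_of_subset (Finset.subset_univ _), Finset.card_univ, Fintype.card_fin,
      Finset.card_pair P.ne, hn3]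
  obtain ⟨k, hk⟩ := Finset.card_eq_one.mp huniv
  rw [hk] at hz
  have hkm : k ∈ (Finset.univ \ {i, j} : Finset (Fin n)) := by rw [hk]; simp
  obtain ⟨c, hc⟩ : ∃ c, c = z k := ⟨_, rfl⟩
  have hzc : z = Pi.single k c := by
    funext m
    by_cases h : m = k
    · rw [h, Pi.single_eq_same, hc]
    · rw [Pi.single_eq_of_ne h, hz m (by simpa using h)]
  -- a scalar with a nontrivial factor
  obtain ⟨l, hl0, hl⟩ : ∃ l : F, l ≠ 0 ∧ star l * star l / l - 1 ≠ 0 := by
    obtain ⟨g, hg⟩ := IsCyclic.exists_ofOrder_eq_natCard (α := Fˣ)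
    rw [Nat.card_units, Nat.card_eq_fintype_card, hF] at hg
    refine ⟨(g : F), g.ne_zero, fun h => ?_⟩
    rw [sub_eq_zero, div_eq_one_iff_eq g.ne_zero, hstar, ← pow_add, ← Units.val_pow_eq_pow_val]
      at h
    have h2 := Hermitian.q_two_le hF
    have h1 : g ^ (q + q - 1) = 1 := by
      apply mul_left_cancel (a := g)
      rw [← pow_succ', Nat.sub_add_cancel (by omega), mul_one]
      exact Units.ext h
    rw [← orderOf_dvd_iff_pow_eq_one, hg] at h1
    have h3 := Nat.le_of_dvd (by omega) h1
    have h4 : 3 * q ≤ q ^ 2 := by rw [pow_two]; exact Nat.mul_le_mul_right q (by omega)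
    omega
  obtain ⟨g, hgN, -, hge⟩ := moves_scalar hF hN P (Finset.mem_univ i) (Finset.mem_univ j) hkm hl0
  -- an Eichler element with the shift `c'`
  set μ := star l * star l / l with hμ
  set c' := c / (μ - 1) with hc'
  obtain ⟨a, ha⟩ := exists_trace hstar hF (r := -(star c' * c'))
    (by rw [star_neg, star_mul', star_star, mul_comm])
  let U : Matrix (Fin n) (Fin 3) F := Matrix.of fun m r => ![e, Pi.single k 1, f] r m
  let J : Matrix (Fin 3) (Fin 3) F := !![0, 0, 1; 0, 1, 0; 1, 0, 0]
  have hJ : Jᴴ = J := by ext r s; fin_cases r <;> fin_cases s <;> simp [J]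
  have hJJ : J * J = 1 := by
    ext r s; fin_cases r <;> fin_cases s <;> simp [J, Matrix.mul_apply, Fin.sum_univ_three]
  have hsk : Supp (Finset.univ \ {i, j}) (Pi.single k 1 : Fin n → F) := Supp.single hkm 1
  obtain ⟨hek, hfk⟩ := P.perp hsk
  have hke : herm (Pi.single k 1 : Fin n → F) e = 0 := by rw [← star_herm, hek, star_zero]
  have hkf : herm (Pi.single k 1 : Fin n → F) f = 0 := by rw [← star_herm, hfk, star_zero]
  have hkk : herm (Pi.single k 1 : Fin n → F) (Pi.single k 1) = 1 := by
    rw [herm_single_left, Pi.single_eq_same, star_one, one_mul]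
  have hU : Uᴴ * U = J := by
    have h0 : ∀ r s, (Uᴴ * U) r s =
        herm (![e, Pi.single k 1, f] r) (![e, Pi.single k 1, f] s) := fun r s => rfl
    ext r s
    rw [h0]
    fin_cases r <;> fin_cases s <;>
      simp [J, P.ee, P.ff, P.ef, P.fe, hek, hfk, hke, hkf, hkk]
  let M : Matrix (Fin 3) (Fin 3) F := !![1, -star c', a; 0, 1, c'; 0, 0, 1]
  have hM : Mᴴ * J * M = J := by
    ext r s
    fin_cases r <;> fin_cases s <;>
      simp [M, J, Matrix.mul_apply, Fin.sum_univ_three]
    linear_combination ha
  have hMd : M.det = 1 := by simp [M, Matrix.det_fin_three]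
  let E := emb hstar U J hJ hJJ hU M hM hMd
  have hEU : ∀ r, act E (fun m => U m r) = fun m => (U * M) m r := by
    intro r
    funext m
    have h1 : (embed U (J * Uᴴ) M * U) = U * M := by
      rw [embed, Matrix.add_mul, Matrix.one_mul, Matrix.mul_assoc, Matrix.mul_assoc J, hU, hJJ,
        Matrix.mul_one, Matrix.mul_sub, Matrix.mul_one, add_sub_cancel]
    exact congrFun (congrFun h1 m) r
  have hEe : act E e = e := by
    have := hEU 0
    refine this.trans ?_
    funext m
    simp [U, M, Matrix.mul_apply, Fin.sum_univ_three]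
  have hEk : act E (Pi.single k 1) = Pi.single k 1 + (-star c') • e := by
    have := hEU 1
    refine this.trans ?_
    funext m
    simp [U, M, Matrix.mul_apply, Fin.sum_univ_three]
    ring
  have hEf : act E f = f + a • e + c' • Pi.single k 1 := by
    have := hEU 2
    refine this.trans ?_
    funext m
    simp [U, M, Matrix.mul_apply, Fin.sum_univ_three]
    ring
  -- action on vectors perpendicular to `e`
  have hperp : ∀ y : Fin n → F, herm e y = 0 → y = herm f y • e + y k • Pi.single k 1 := by
    intro y hy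
    have h1 := P.decompose (I := Finset.univ) (Finset.mem_univ i) (Finset.mem_univ j) (v := y)
      (fun m hm => absurd (Finset.mem_univ m) hm)
    rw [hk, hy, zero_smul, sub_zero] at h1
    funext m
    by_cases hm : m = k
    · subst hm
      have he0 : e m = 0 := P.supp_e m (fun h => (Finset.mem_sdiff.mp hkm).2 h)
      simp [he0]
    · have := h1 m (by simpa using hm)
      simpa [Pi.single_eq_of_ne hm, sub_eq_zero] using this
  have hEy : ∀ y : Fin n → F, herm e y = 0 → ∃ b : F, act E y = y + b • e := fun y hy => by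
    refine ⟨-(y k * star c'), ?_⟩
    conv_lhs => rw [hperp y hy]
    rw [act_add, act_smul, act_smul, hEe, hEk]
    conv_rhs => arg 1; rw [hperp y hy]
    module
  have hgi : act g⁻¹ e = l⁻¹ • e := by
    have := act_inv_act g e
    rw [hge, act_smul] at this
    rw [eq_inv_smul_iff₀ hl0]
    exact this
  have hgperp : ∀ y, herm e y = 0 → herm e (act g y) = 0 := by
    intro y hy
    have h1 := herm_act hstar g e y
    rw [hge, herm_smul_left, hy] at h1
    exact (mul_eq_zero.mp h1).resolve_left (star_ne_zero.mpr hl0)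
  obtain ⟨ν, b, hgk⟩ : ∃ ν b : F, act g (Pi.single k 1) = ν • Pi.single k 1 + b • e :=
    ⟨_, _, (hperp _ (hgperp _ hek)).trans (add_comm _ _)⟩
  have hgf : herm e (act g f) = (star l)⁻¹ := by
    have h1 := herm_act hstar g e f
    rw [hge, herm_smul_left, P.ef] at h1
    exact eq_inv_of_mul_eq_one_right h1
  have hν : ν = star l / l := by
    have h1 : ((J * Uᴴ) * g.1.1 * U).det = 1 := by
      have e1 : g.1.1.det = 1 := g.1.2
      let ι : Fin 3 ≃ Fin n := finCongr hn3.symm
      have e2 : ((J * Uᴴ) * g.1.1 * U).det =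
          ((J * Uᴴ).submatrix id ι).det * (g.1.1.submatrix ι ι).det * (U.submatrix ι id).det := by
        rw [← Matrix.det_mul, ← Matrix.det_mul, Matrix.submatrix_mul_equiv,
          Matrix.submatrix_mul_equiv, Matrix.submatrix_id_id]
      have e3 : ((J * Uᴴ).submatrix id ι).det * (U.submatrix ι id).det = 1 := by
        rw [← Matrix.det_mul, Matrix.submatrix_mul_equiv, Matrix.submatrix_id_id, Matrix.mul_assoc,
          hU, hJJ, Matrix.det_one]
      rw [e2, Matrix.det_submatrix_equiv_self, e1, mul_one, e3]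
    have h0 : ∀ r s, ((J * Uᴴ) * g.1.1 * U) r s =
        ∑ t, J r t * herm (![e, Pi.single k 1, f] t) (act g (![e, Pi.single k 1, f] s)) := by
      intro r s
      rw [Matrix.mul_assoc, Matrix.mul_assoc, Matrix.mul_apply]
      exact Finset.sum_congr rfl fun t _ => rfl
    rw [Matrix.det_fin_three] at h1
    simp only [h0, Fin.sum_univ_three] at h1
    simp [J, hge, hgk, hgf, herm_add_right, herm_smul_right, P.ee, P.fe, hek, hfk, hke, hkk]
      at h1
    have hl' := star_ne_zero.mpr hl0
    field_simp at h1 ⊢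
    linear_combination h1
  refine ⟨g * E * g⁻¹ * E⁻¹, ?_, fun m hm => absurd (Finset.mem_univ m) hm, ?_,
    fun y _ hy => ?_, ?_⟩
  · rw [mul_assoc, mul_assoc, ← mul_assoc E]
    exact mul_mem hgN (hNn.conj_mem _ (inv_mem hgN) E)
  · rw [act_mul, act_mul, act_mul]
    have : act E⁻¹ e = e := by conv_lhs => rw [← hEe, act_inv_act]
    rw [this, hgi, act_smul, hEe, act_smul, hge, smul_smul, inv_mul_cancel₀ hl0, one_smul]
  · have hEinv : ∀ y, herm e y = 0 → ∃ b : F, act E⁻¹ y = y + b • e := by
      intro y hy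
      obtain ⟨b, hb⟩ := hEy y hy
      refine ⟨-b, act_injective E ?_⟩
      rw [act_act_inv, act_add, act_smul, hb, hEe]
      module
    have hginv : ∀ y, herm e y = 0 → herm e (act g⁻¹ y) = 0 := by
      intro y hy
      have h1 := herm_act hstar g⁻¹ e y
      rw [hgi, herm_smul_left, hy] at h1
      exact (mul_eq_zero.mp h1).resolve_left (star_ne_zero.mpr (inv_ne_zero hl0))
    obtain ⟨b1, hb1⟩ := hEinv y hy
    obtain ⟨b2, hb2⟩ := hEy (act g⁻¹ y) (hginv y hy)
    refine ⟨b1 + b2 * l, ?_⟩
    rw [act_mul, act_mul, act_mul, hb1, act_add, act_smul, act_add, act_smul, hb2, hgi, act_smul,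
      hEe, act_add, act_add, act_smul, act_smul, act_smul, hge, act_act_inv]
    rw [smul_smul b1, smul_smul (b1 * l⁻¹), inv_mul_cancel_right₀ hl0]
    module
  · -- the image of `f`
    have hEinvf : ∃ b : F, act E⁻¹ f = f + b • e - c' • Pi.single k 1 := by
      refine ⟨-a - c' * star c', act_injective E ?_⟩
      rw [act_act_inv, act_sub, act_add, act_smul, act_smul, hEe, hEf, hEk]
      module
    obtain ⟨b1, hb1⟩ := hEinvf
    -- the inverse of `g` on `f`
    have hα : herm e (act g⁻¹ f) = star l := by
      have h1 := herm_act hstar g e (act g⁻¹ f)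
      rw [act_act_inv, hge, herm_smul_left, P.ef, mul_one] at h1
      exact h1.symm
    set y0 := act g⁻¹ f - star l • f with hy0
    have hy0e : herm e y0 = 0 := by
      rw [hy0, herm_sub_right, hα, herm_smul_right, P.ef, mul_one, sub_self]
    obtain ⟨b2, hb2⟩ := hEy y0 hy0e
    have hgkinv : ∃ b : F, act g⁻¹ (Pi.single k 1) = ν⁻¹ • Pi.single k 1 + b • e := by
      refine ⟨-(ν⁻¹ * b * l⁻¹), act_injective g ?_⟩
      have hν0 : ν ≠ 0 := by rw [hν]; exact div_ne_zero (star_ne_zero.mpr hl0) hl0
      rw [act_act_inv, act_add, act_smul, act_smul, hgk, hge, smul_add, smul_smul, smul_smul,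
        inv_mul_cancel₀ hν0, one_smul, smul_smul,
        show -(ν⁻¹ * b * l⁻¹) * l = -(ν⁻¹ * b) by field_simp]
      module
    obtain ⟨b3, hb3⟩ := hgkinv
    have hEgf : act E (act g⁻¹ f) = act g⁻¹ f + (star l * a + b2) • e + (star l * c') • Pi.single k 1 := by
      have e1 : act g⁻¹ f = star l • f + y0 := by rw [hy0]; abel
      rw [e1, act_add, act_smul, hEf, hb2]
      module
    have hν0 : ν ≠ 0 := by rw [hν]; exact div_ne_zero (star_ne_zero.mpr hl0) hl0
    refine ⟨(star l * a + b2) * l + star l * c' * b + b1 - c' * b3 * l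
      - c' * ν⁻¹ * (-star c' * l + b), ?_⟩
    rw [act_mul, act_mul, act_mul, hb1]
    simp only [act_sub, act_add, act_smul, hgi, hb3, hEgf, hEe, hEk, hge, hgk, act_act_inv]
    rw [hzc, show (Pi.single k c : Fin n → F) = c • Pi.single k 1 by
        ext m; simp [Pi.single_apply],
      show c = c' * (μ - 1) by rw [hc', div_mul_cancel₀ _ hl]]
    rw [hμ, hν]
    have hl' := star_ne_zero.mpr hl0
    match_scalars <;> field_simp <;> ring

/-! ### The pair transitivity and the induction -/

theorem exists_fix_pair (hF : Fintype.card F = q ^ 2) (hN : HasTrans hstar N) (P : Pair i j e f)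
    (hi : i ∈ I) (hj : j ∈ I) {k : Fin n} (hk : k ∈ I \ {i, j})
    (hE : ∀ z, Supp (I \ {i, j}) z → Eich N I e f z) {g : Cfsg.SU n F q} (hg : g ∈ fixOut q I) :
    ∃ x ∈ N, x ∈ fixOut q I ∧ act (x * g) e = e ∧ act (x * g) f = f := by
  have hse := supp_pair hi hj P.supp_e
  have hsf := supp_pair hi hj P.supp_f
  have he0 : e ≠ 0 := fun h => by
    have := P.ef
    rw [h, herm_zero_left] at this
    exact zero_ne_one this
  have hu0 : act g e ≠ 0 := fun h => he0 (act_injective g (h.trans (Matrix.mulVec_zero _).symm))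
  obtain ⟨x1, hx1, hx1I, hx1e⟩ := moves_to_e hF hN P hi hj hk hu0
    (by rw [herm_act hstar]; exact P.ee) (act_supp hstar hg hse)
  set v := act (x1 * g) f with hv
  have hsv : Supp I v := act_supp hstar (mul_mem hx1I hg) hsf
  have hev : herm e v = 1 := by
    have h1 := herm_act hstar (x1 * g) e f
    rw [act_mul, hx1e, P.ef] at h1
    exact h1
  set z := v - herm f v • e - herm e v • f with hz
  have hsz : Supp (I \ {i, j}) z := P.decompose hi hj hsv
  obtain ⟨x2, hx2, hx2I, hx2e, hx2y, a, hx2f⟩ :=
    hE (-z) (fun m hm => by rw [Pi.neg_apply, hsz m hm, neg_zero])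
  obtain ⟨b, hb⟩ := hx2y z (fun m hm => hsz m fun h => hm (Finset.mem_sdiff.mp h).1) (P.perp hsz).1
  have hveq : v = herm f v • e + f + z := by
    rw [hz, hev, one_smul]; abel
  have hxv : act x2 v = f + (herm f v + a + b) • e := by
    conv_lhs => rw [hveq]
    rw [act_add, act_add, act_smul, hx2e, hx2f, hb]
    module
  set γ := herm f v + a + b with hγ
  have hskew : star (-γ) = -(-γ) := by
    have h1 := herm_act hstar (x2 * (x1 * g)) f f
    rw [act_mul, ← hv, hxv, P.ff] at h1
    simp [herm_add_left, herm_add_right, herm_smul_left, herm_smul_right, P.ee, P.ff, P.ef, P.fe]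
      at h1
    rw [star_neg, neg_neg, neg_eq_iff_add_eq_zero]
    linear_combination h1
  refine ⟨trans hstar e P.ee (-γ) hskew * x2 * x1, mul_mem (mul_mem (hN _ _ _ _) hx2) hx1,
    mul_mem (mul_mem (trans_mem_fixOut hstar _ hse _) hx2I) hx1I, ?_, ?_⟩
  · rw [mul_assoc, act_mul, act_mul, act_mul, hx1e, hx2e, act_trans, P.ee]
    simp
  · rw [mul_assoc, act_mul, act_mul, ← hv, hxv, act_trans, herm_add_right, herm_smul_right, P.ee,
      P.ef]
    module

theorem exists_fix_two (hF : Fintype.card F = q ^ 2) (hN : HasTrans hstar N) (P : Pair i j e f)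
    {g : Cfsg.SU n F q} (hg : g ∈ fixOut q {i, j}) :
    ∃ x ∈ N, x ∈ fixOut q {i, j} ∧ act (x * g) e = e ∧ act (x * g) f = f := by
  classical
  have hskew : ∀ g : Cfsg.SU n F q, g ∈ fixOut q {i, j} →
      star (herm e (act g e)) = -herm e (act g e) := by
    intro g hg
    let U : Matrix (Fin n) (Fin 2) F := Matrix.of fun m r => (![Pi.single i 1, Pi.single j 1] r : Fin n → F) m
    let M : Matrix (Fin 2) (Fin 2) F := !![g.1.1 i i, g.1.1 i j; g.1.1 j i, g.1.1 j j]
    have hout : ∀ a b, b ∉ ({i, j} : Finset (Fin n)) →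
        g.1.1 a b = (1 : Matrix (Fin n) (Fin n) F) a b := by
      intro a b hb
      have h1 := congrFun (hg b hb) a
      rw [act, Matrix.mulVec_single_one] at h1
      rw [← Matrix.col_apply g.1.1 b a, h1, Matrix.one_apply, Pi.single_apply]
    have hrow : ∀ a b, a ∉ ({i, j} : Finset (Fin n)) →
        g.1.1 a b = (1 : Matrix (Fin n) (Fin n) F) a b := by
      intro a b ha
      by_cases hb : b ∈ ({i, j} : Finset (Fin n))
      · have h1 := act_supp hstar hg (Supp.single hb (1 : F)) a ha
        rw [act, Matrix.mulVec_single_one] at h1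
        rw [← Matrix.col_apply g.1.1 b a, h1, Matrix.one_apply, if_neg]
        rintro rfl
        exact ha hb
      · exact hout a b hb
    have hVU : Uᴴ * U = 1 := by
      ext r s
      have h0 : (Uᴴ * U) r s = herm (![Pi.single i 1, Pi.single j 1] r : Fin n → F)
          (![Pi.single i 1, Pi.single j 1] s) := rfl
      rw [h0]
      fin_cases r <;> fin_cases s <;> simp [herm_single_left, P.ne, P.ne.symm]
    have hgM : g.1.1 = embed U (Uᴴ) M := by
      ext a b
      rw [embed, Matrix.add_apply, Matrix.mul_apply, Fin.sum_univ_two, Matrix.mul_apply,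
        Matrix.mul_apply, Fin.sum_univ_two, Fin.sum_univ_two]
      by_cases ha : a ∈ ({i, j} : Finset (Fin n))
      · by_cases hb : b ∈ ({i, j} : Finset (Fin n))
        · simp only [Finset.mem_insert, Finset.mem_singleton] at ha hb
          rcases ha with rfl | rfl <;> rcases hb with rfl | rfl <;>
            simp [U, M, Matrix.conjTranspose_apply, Matrix.one_apply, Pi.single_apply, P.ne,
              P.ne.symm]
        · simp only [Finset.mem_insert, Finset.mem_singleton, not_or] at hb
          rw [hout a b (by simp [hb])]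
          simp [U, Matrix.conjTranspose_apply, Pi.single_apply, hb.1, hb.2]
      · simp only [Finset.mem_insert, Finset.mem_singleton, not_or] at ha
        rw [hrow a b (by simp [ha])]
        simp [U, Pi.single_apply, ha.1, ha.2]
    have hMd : M.det = 1 := by
      rw [← embed_det U Uᴴ hVU M, ← hgM]
      exact g.1.2
    have hMu : M * Mᴴ = 1 := by
      apply mul_eq_one_comm.mp
      ext r s
      have h1 := conjTranspose_mul_self hstar g
      have key : ∀ a b, a ∈ ({i, j} : Finset (Fin n)) → b ∈ ({i, j} : Finset (Fin n)) →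
          star (g.1.1 i a) * g.1.1 i b + star (g.1.1 j a) * g.1.1 j b =
            (1 : Matrix (Fin n) (Fin n) F) a b := by
        intro a b ha hb
        rw [← h1, Matrix.mul_apply, ← Finset.sum_subset (Finset.subset_univ ({i, j} : Finset (Fin n))),
          Finset.sum_pair P.ne]
        · rfl
        · intro c _ hc
          have : g.1.1 c b = 0 := by
            rw [hrow c b hc, Matrix.one_apply, if_neg]
            rintro rfl
            exact hc hb
          rw [Matrix.conjTranspose_apply, this, mul_zero]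
      fin_cases r <;> fin_cases s <;>
        simp [M, Matrix.mul_apply, Fin.sum_univ_two, key, Matrix.one_apply, P.ne, P.ne.symm]
    have hinv : Mᴴ = M.adjugate := by
      have h2 : M.adjugate * (M * Mᴴ) = Mᴴ := by
        rw [← Matrix.mul_assoc, Matrix.adjugate_mul, hMd, one_smul, Matrix.one_mul]
      rw [← h2, hMu, Matrix.mul_one]
    have h00 := congrFun (congrFun hinv 0) 0
    have h10 := congrFun (congrFun hinv 1) 0
    simp [M, Matrix.adjugate_fin_two] at h00 h10
    have hh : herm e (act g e) = star (e i) * (g.1.1 i i * e i + g.1.1 i j * e j) +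
        star (e j) * (g.1.1 j i * e i + g.1.1 j j * e j) := by
      rw [herm, dotProduct, ← Finset.sum_subset (Finset.subset_univ ({i, j} : Finset (Fin n)))
        (fun c _ hc => by simp [P.supp_e c hc]), Finset.sum_pair P.ne]
      have hact : ∀ c, act g e c = g.1.1 c i * e i + g.1.1 c j * e j := by
        intro c
        rw [act, Matrix.mulVec, dotProduct,
          ← Finset.sum_subset (Finset.subset_univ ({i, j} : Finset (Fin n)))
          (fun d _ hd => by simp [P.supp_e d hd]), Finset.sum_pair P.ne]
      simp only [Pi.star_apply, hact]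
    have hee : star (e i) * e i + star (e j) * e j = 0 := by
      have := P.ee
      rw [herm, dotProduct, ← Finset.sum_subset (Finset.subset_univ ({i, j} : Finset (Fin n)))
        (fun c _ hc => by simp [P.supp_e c hc]), Finset.sum_pair P.ne] at this
      exact this
    have h00' : star (g.1.1 j j) = g.1.1 i i := by rw [← h00, star_star]
    have h10' : star (g.1.1 j i) = -g.1.1 i j := by
      have := congrArg star h10
      rw [star_star, star_neg] at this
      rw [this, neg_neg]
    rw [hh]
    simp only [star_add, star_mul', star_star, h00, h00', h10, h10']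
    linear_combination (g.1.1 j j + g.1.1 i i) * hee
  obtain ⟨θ, hθ0, hθ⟩ := exists_skew hstar hF
  have hse : Supp {i, j} e := P.supp_e
  have hsf : Supp {i, j} f := P.supp_f
  have hdec : ∀ v, Supp {i, j} v → v = herm f v • e + herm e v • f := by
    intro v hv
    have h1 := P.decompose (I := {i, j}) (by simp) (by simp) hv
    have h2 : v - herm f v • e - herm e v • f = 0 := funext fun m => h1 m (by simp)
    rwa [sub_sub, sub_eq_zero] at h2
  -- reduce to a nonzero coordinate along `f`
  suffices main : ∀ g : Cfsg.SU n F q, g ∈ fixOut q {i, j} → herm e (act g e) ≠ 0 →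
      ∃ x ∈ N, x ∈ fixOut q {i, j} ∧ act (x * g) e = e ∧ act (x * g) f = f by
    by_cases h : herm e (act g e) = 0
    swap
    · exact main g hg h
    have hfg : herm f (act g e) ≠ 0 := by
      intro h'
      have h1 := hdec _ (act_supp hstar hg hse)
      rw [h, h', zero_smul, zero_smul, add_zero] at h1
      have h2 := P.ef
      rw [← herm_act hstar g, h1, herm_zero_left] at h2
      exact zero_ne_one h2
    set T := trans hstar f P.ff θ hθ with hT
    obtain ⟨x, hx, hxI, h1, h2⟩ := main (T * g) (mul_mem (trans_mem_fixOut hstar _ hsf _) hg) (by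
      rw [act_mul, hT, act_trans, herm_add_right, h, herm_smul_right, P.ef, zero_add, mul_one]
      exact mul_ne_zero hθ0 hfg)
    exact ⟨x * T, mul_mem hx (hN _ _ _ _), mul_mem hxI (trans_mem_fixOut hstar _ hsf _),
      by rw [mul_assoc]; exact h1, by rw [mul_assoc]; exact h2⟩
  intro g hg hβ0
  set u := act g e with hu
  set β := herm e u with hβ
  set α := herm f u with hα
  have hβs : star β = -β := hskew g hg
  have hαs : star α = α := by
    have h1 := herm_act hstar g e e
    rw [← hu, hdec u (act_supp hstar hg hse), ← hα, ← hβ, P.ee] at h1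
    simp [herm_add_left, herm_add_right, herm_smul_left, herm_smul_right, P.ee, P.ff, P.ef, P.fe,
      hβs] at h1
    have h2 : β * (star α - α) = 0 := by linear_combination h1
    exact sub_eq_zero.mp ((mul_eq_zero.mp h2).resolve_left hβ0)
  have hs1 : star (-(α / β)) = -(-(α / β)) := by
    rw [star_neg, star_div₀, hαs, hβs, div_neg]
  have hsβ : star β⁻¹ = -β⁻¹ := by rw [star_inv₀, hβs, inv_neg]
  have hstep1 : Moves N {i, j} u (β • f) := by
    refine ⟨trans hstar e P.ee _ hs1, hN _ _ _ _, trans_mem_fixOut hstar _ hse _, ?_⟩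
    rw [act_trans, ← hβ]
    conv_lhs => rw [hdec u (act_supp hstar hg hse), ← hα, ← hβ]
    rw [neg_mul, div_mul_cancel₀ _ hβ0]
    module
  have hstep2 := (moves_line hN P.ff hsf P.ee hse (by rw [P.ef]; exact one_ne_zero)
    (inv_ne_zero hβ0) hsβ).scale β
  rw [P.ef, mul_one, smul_smul, mul_inv_cancel₀ hβ0, one_smul] at hstep2
  obtain ⟨x, hx, hxI, hxe⟩ := hstep1.comp hstep2
  set v := act (x * g) f with hv
  have hsv : Supp {i, j} v := act_supp hstar (mul_mem hxI hg) hsf
  have hev : herm e v = 1 := by
    have h1 := herm_act hstar (x * g) e f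
    rw [act_mul, ← hu, hxe, P.ef] at h1
    exact h1
  set γ := herm f v with hγ
  have hvd : v = γ • e + f := by
    conv_lhs => rw [hdec v hsv, ← hγ, hev, one_smul]
  have hγs : star (-γ) = -(-γ) := by
    have h1 := herm_act hstar (x * g) f f
    rw [← hv, hvd, P.ff] at h1
    simp [herm_add_left, herm_add_right, herm_smul_left, herm_smul_right, P.ee, P.ff, P.ef, P.fe]
      at h1
    rw [star_neg, neg_neg, neg_eq_iff_add_eq_zero]
    linear_combination h1
  refine ⟨trans hstar e P.ee (-γ) hγs * x, mul_mem (hN _ _ _ _) hx,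
    mul_mem (trans_mem_fixOut hstar _ hse _) hxI, ?_, ?_⟩
  · rw [mul_assoc, act_mul, act_mul, ← hu, hxe, act_trans, P.ee]
    simp
  · rw [mul_assoc, act_mul, ← hv, hvd, act_trans, herm_add_right, herm_smul_right, P.ee, P.ef]
    module

theorem mem_of_fixOut (hF : Fintype.card F = q ^ 2) [N.Normal] (hN : HasTrans hstar N)
    (hex : ¬(n = 3 ∧ q = 2)) : ∀ (m : ℕ) (I : Finset (Fin n)), I.card = m →
    (m ≠ 3 ∨ n = 3) → ∀ g ∈ fixOut q I, g ∈ N := by
  intro m
  induction m using Nat.strong_induction_on with
  | _ m ih =>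
    intro I hI hm g hg
    rcases lt_or_ge m 2 with hm2 | hm2
    · -- at most one coordinate
      suffices g = 1 by rw [this]; exact one_mem N
      apply eq_one_of_act
      intro k
      by_cases hk : k ∈ I
      swap
      · exact hg k hk
      have hIk : I = {k} := Finset.eq_singleton_iff_unique_mem.mpr
        ⟨hk, fun x hx => Finset.card_le_one.mp (by omega) x hx k hk⟩
      have h1 := act_supp hstar hg (Supp.single (F := F) hk 1)
      have h2 : act g (Pi.single k 1) = Pi.single k (act g (Pi.single k 1) k) := by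
        funext l
        by_cases hl : l = k
        · rw [hl, Pi.single_eq_same]
        · rw [Pi.single_eq_of_ne hl, h1 l (by simp [hIk, hl])]
      have h3 : act g (Pi.single k 1) k = 1 := by
        have e1 : g.1.1.det = g.1.1 k k := by
          have hgd : g.1.1 = Matrix.diagonal fun l => if l = k then g.1.1 k k else 1 := by
            ext a b
            by_cases hb : b = k
            · subst hb
              have := congrFun h2 a
              simp only [act, Matrix.mulVec_single_one, Matrix.col_apply] at this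
              rw [this, Matrix.diagonal_apply, Pi.single_apply]
              split_ifs <;> rfl
            · have := congrFun (hg b (by simp [hIk, hb])) a
              simp only [act, Matrix.mulVec_single_one, Matrix.col_apply] at this
              rw [this, Matrix.diagonal_apply, Pi.single_apply]
              split_ifs with hab hak <;> first | rfl | exact absurd (hab.symm.trans hak) hb
          conv_lhs => rw [hgd, Matrix.det_diagonal]
          simp
        rw [act, Matrix.mulVec_single_one, Matrix.col_apply, ← e1]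
        exact g.1.2
      rw [h2, h3]
    obtain ⟨i, hi, j, hj, hij⟩ := Finset.one_lt_card.mp (show 1 < I.card by omega)
    obtain ⟨e, f, P⟩ := exists_pair hstar hF hij
    have hfinish : ∀ (I' : Finset (Fin n)), I'.card < m → (I'.card ≠ 3 ∨ n = 3) →
        (∀ x ∈ fixOut q I, act (x : Cfsg.SU n F q) e = e → act x f = f → x ∈ fixOut q I') →
        (∃ x ∈ N, x ∈ fixOut q I ∧ act (x * g) e = e ∧ act (x * g) f = f) → g ∈ N := by
      intro I' hlt h3 hsub ⟨x, hx, hxI, h1, h2⟩
      have h4 := ih I'.card hlt I' rfl h3 _ (hsub _ (mul_mem hxI hg) h1 h2)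
      exact (Subgroup.mul_mem_cancel_left N hx).mp h4
    have hfix : ∀ (I' : Finset (Fin n)), (∀ k, k ∉ I' → k ∉ I ∨ k = i ∨ k = j) →
        ∀ x ∈ fixOut q I, act (x : Cfsg.SU n F q) e = e → act x f = f → x ∈ fixOut q I' := by
      intro I' hI' x hx h1 h2 k hk
      obtain ⟨hxi, hxj⟩ := P.fix h1 h2
      rcases hI' k hk with h | rfl | rfl
      · exact hx k h
      · exact hxi
      · exact hxj
    rcases eq_or_lt_of_le hm2 with hm2' | hm3
    · -- two coordinates
      have hI2 : I = {i, j} := (Finset.eq_of_subset_of_card_le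
        (by simp [Finset.insert_subset_iff, hi, hj]) (by rw [Finset.card_pair hij]; omega)).symm
      refine hfinish ∅ (by simp; omega) (Or.inl (by simp)) (hfix ∅ fun k _ => ?_) ?_
      · by_cases hk : k ∈ I
        · rw [hI2] at hk
          simp only [Finset.mem_insert, Finset.mem_singleton] at hk
          exact Or.inr hk
        · exact Or.inl hk
      · subst hI2
        exact exists_fix_two hF hN P hg
    have hcard : (I \ {i, j}).card = m - 2 := by
      rw [Finset.card_sdiff_of_subset (by simp [Finset.insert_subset_iff, hi, hj]),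
        Finset.card_pair hij, hI]
    obtain ⟨k, hk⟩ := Finset.card_pos.mp (show 0 < (I \ {i, j}).card by omega)
    have hex' : ∀ z, Supp (I \ {i, j}) z → Eich N I e f z := by
      intro z hz
      by_cases hm4 : 4 ≤ m
      · exact eich_all hF hN P hi hj (by omega) hz
      · have hn3 : n = 3 := hm.resolve_left (by omega)
        have hIu : I = Finset.univ :=
          Finset.eq_univ_of_card I (by rw [Fintype.card_fin]; omega)
        subst hIu
        exact eich_three hn3 hF (fun hq => hex ⟨hn3, hq⟩) hN P hz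
    have hpair := exists_fix_pair hF hN P hi hj hk hex' hg
    by_cases hm5 : 5 ≤ m
    · refine hfinish (I.erase i) (by rw [Finset.card_erase_of_mem hi]; omega)
        (Or.inl (by rw [Finset.card_erase_of_mem hi]; omega)) (hfix _ fun k hk => ?_) hpair
      rw [Finset.mem_erase, not_and] at hk
      by_cases h : k = i
      · exact Or.inr (Or.inl h)
      · exact Or.inl (hk h)
    · refine hfinish (I \ {i, j}) (by omega) (Or.inl (by omega)) (hfix _ fun k hk => ?_) hpair
      simp only [Finset.mem_sdiff, Finset.mem_insert, Finset.mem_singleton, not_and, not_not] at hk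
      by_cases h : k ∈ I
      · exact Or.inr (hk h)
      · exact Or.inl h

/-- A normal subgroup containing the transvections along one isotropic vector is everything. -/
theorem normal_eq_top (hF : Fintype.card F = q ^ 2) (hn : 3 ≤ n) (hex : ¬(n = 3 ∧ q = 2))
    [hNn : N.Normal] {v : Fin n → F} (hv0 : v ≠ 0) (hv : herm v v = 0)
    (hmem : ∀ (t : F) (ht : star t = -t), trans hstar v hv t ht ∈ N) : N = ⊤ := by
  have htop : HasTrans hstar (⊤ : Subgroup (Cfsg.SU n F q)) := fun _ _ _ _ => trivial
  let i0 : Fin n := ⟨0, by omega⟩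
  let j0 : Fin n := ⟨1, by omega⟩
  let k0 : Fin n := ⟨2, by omega⟩
  obtain ⟨e, f, P⟩ := exists_pair hstar hF (i := i0) (j := j0) (by simp [i0, j0, Fin.ext_iff])
  have hk : k0 ∈ (Finset.univ : Finset (Fin n)) \ {i0, j0} := by
    simp [i0, j0, k0, Fin.ext_iff]
  have hall : ∀ w : Fin n → F, w ≠ 0 → herm w w = 0 →
      Moves (⊤ : Subgroup (Cfsg.SU n F q)) Finset.univ w e := fun w hw0 hw =>
    moves_to_e hF htop P (Finset.mem_univ _) (Finset.mem_univ _) hk hw0 hw
      (fun m hm => absurd (Finset.mem_univ m) hm)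
  have hN : HasTrans hstar N := by
    intro w hw t ht
    by_cases hw0 : w = 0
    · have : trans hstar w hw t ht = 1 := eq_one_of_act fun k => by
        rw [act_trans, hw0]; simp
      rw [this]
      exact one_mem N
    obtain ⟨g, -, -, hg⟩ := (hall v hv0 hv).comp (hall w hw0 hw).symm
    have h1 := conj_trans hstar g v hv t ht
    have h2 : trans hstar (act g v) (by rw [herm_act hstar]; exact hv) t ht ∈ N :=
      h1 ▸ hNn.conj_mem _ (hmem t ht) g
    subst hg
    exact h2
  refine eq_top_iff.mpr fun g _ => mem_of_fixOut hF hN hex n Finset.univ (by simp) ?_ g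
    (fun k hk => absurd (Finset.mem_univ k) hk)
  omega

end Cfsg.Agent.Small.Unitary
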