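import Mathlib
import Cfsg.Agent.Lib.Small.Unitary.Generation

/-!
Congruence orbits of Hermitian matrices are at least as large as the orbit of rank one, and the
characters of the group of skew-Hermitian matrices are given by Hermitian matrices.
-/

set_option autoImplicit false
set_option linter.unusedSectionVars false

namespace Cfsg.Agent.Small.Unitary

open Matrix

variable {F : Type*} [Field F] [Fintype F] [StarRing F] {q : ℕ}

theorem card_fixed_units_ge [DecidableEq F] (hstar : ∀ x : F, star x = x ^ q)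
    (hF : Fintype.card F = q ^ 2) :
    q - 1 ≤ (Finset.univ.filter fun a : F => a ≠ 0 ∧ star a = a).card := by
  classical
  have hq := Hermitian.q_two_le hF
  have h := IsCyclic.card_powMonoidHom_range (G := Fˣ) (q + 1)
  rw [Nat.card_units, Nat.card_eq_fintype_card (α := F), hF, Hermitian.sq_sub_one,
    Nat.gcd_mul_right_left, Nat.mul_div_cancel_left _ (by omega)] at h
  rw [← h, Nat.card_eq_fintype_card]
  rw [← Finset.card_univ]
  refine Finset.card_le_card_of_injOn (fun u => ((u.1 : Fˣ) : F)) (fun u _ => ?_)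
    (fun u _ v _ he => Subtype.ext (Units.ext he))
  obtain ⟨u, w, rfl⟩ := u
  simp only [Finset.coe_filter, Set.mem_setOf_eq, Finset.mem_univ, true_and, powMonoidHom_apply]
  refine ⟨Units.ne_zero _, ?_⟩
  have hpc : ((w : F)) ^ (q ^ 2) = (w : F) := by rw [← hF]; exact FiniteField.pow_card _
  rw [hstar, Units.val_pow_eq_pow_val, ← pow_mul, show (q + 1) * q = q ^ 2 + q by ring, pow_add,
    hpc, pow_succ']

variable {l : ℕ}

theorem exists_det_one_col (v : Fin (l + 2) → F) (hv : v ≠ 0) :
    ∃ A : Matrix (Fin (l + 2)) (Fin (l + 2)) F, A.det = 1 ∧ ∀ i, A i 0 = v i := by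
  classical
  obtain ⟨m, hm⟩ : ∃ m, v m ≠ 0 := Function.ne_iff.mp hv
  let B : Matrix (Fin (l + 2)) (Fin (l + 2)) F :=
    ((1 : Matrix _ _ F).updateCol m v).submatrix id (Equiv.swap 0 m)
  have hB : B.det ≠ 0 := by
    rw [Matrix.det_permute', ← Matrix.cramer_apply, Matrix.cramer_one]
    refine mul_ne_zero ?_ hm
    rcases Int.units_eq_one_or (Equiv.Perm.sign (Equiv.swap (0 : Fin (l + 2)) m)) with h | h <;>
      simp [h]
  have hB0 : ∀ i, B i 0 = v i := fun i => by
    simp [B]
  refine ⟨B * Matrix.diagonal (Function.update 1 1 B.det⁻¹), ?_, fun i => ?_⟩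
  · rw [Matrix.det_mul, Matrix.det_diagonal, Finset.prod_update_of_mem (Finset.mem_univ _)]
    simp [mul_inv_cancel₀ hB]
  · rw [Matrix.mul_diagonal, hB0]
    simp

/-- The congruence orbit of a matrix, over all invertible matrices or those of determinant one. -/
noncomputable def congrOrbit (S : Set (Matrix (Fin l) (Fin l) F)) (K : Matrix (Fin l) (Fin l) F) :
    Finset (Matrix (Fin l) (Fin l) F) :=
  (Set.toFinite ((fun g => gᴴ * K * g) '' S)).toFinset

theorem mem_congrOrbit {S : Set (Matrix (Fin l) (Fin l) F)} {K M : Matrix (Fin l) (Fin l) F} :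
    M ∈ congrOrbit S K ↔ ∃ g ∈ S, gᴴ * K * g = M := by
  simp [congrOrbit]

/-- Block diagonal extension by a leading entry. -/
def diag1 (x : F) (h : Matrix (Fin l) (Fin l) F) : Matrix (Fin (l + 1)) (Fin (l + 1)) F :=
  Matrix.of (Fin.cons (Fin.cons x 0) (fun i => Fin.cons 0 (h i)))

theorem diag1_zero_zero (x : F) (h : Matrix (Fin l) (Fin l) F) : diag1 x h 0 0 = x := by
  simp [diag1]

theorem diag1_zero_succ (x : F) (h : Matrix (Fin l) (Fin l) F) (j : Fin l) :
    diag1 x h 0 j.succ = 0 := by simp [diag1]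

theorem diag1_succ_zero (x : F) (h : Matrix (Fin l) (Fin l) F) (i : Fin l) :
    diag1 x h i.succ 0 = 0 := by simp [diag1]

theorem diag1_succ_succ (x : F) (h : Matrix (Fin l) (Fin l) F) (i j : Fin l) :
    diag1 x h i.succ j.succ = h i j := by simp [diag1]

theorem diag1_det (x : F) (h : Matrix (Fin l) (Fin l) F) : (diag1 x h).det = x * h.det := by
  rw [Matrix.det_succ_row_zero, Fin.sum_univ_succ]
  have h0 : (diag1 x h).submatrix Fin.succ Fin.succ = h := by
    ext i j; simp [diag1_succ_succ]
  simp [h0, diag1_zero_zero, diag1_zero_succ]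

theorem diag1_congr_zero_zero (x : F) (h : Matrix (Fin l) (Fin l) F)
    (M : Matrix (Fin (l + 1)) (Fin (l + 1)) F) :
    ((diag1 x h)ᴴ * M * diag1 x h) 0 0 = star x * M 0 0 * x := by
  simp [Matrix.mul_apply, Fin.sum_univ_succ, diag1_zero_zero, diag1_succ_zero]

theorem diag1_congr_zero_succ (x : F) (h : Matrix (Fin l) (Fin l) F)
    (M : Matrix (Fin (l + 1)) (Fin (l + 1)) F) (s : Fin l) :
    ((diag1 x h)ᴴ * M * diag1 x h) 0 s.succ = ∑ b, star x * M 0 b.succ * h b s := by
  simp [Matrix.mul_apply, Fin.sum_univ_succ, diag1_zero_zero, diag1_zero_succ, diag1_succ_zero,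
    diag1_succ_succ]

theorem diag1_congr_succ_succ (x : F) (h : Matrix (Fin l) (Fin l) F)
    (M : Matrix (Fin (l + 1)) (Fin (l + 1)) F) (a s : Fin l) :
    ((diag1 x h)ᴴ * M * diag1 x h) a.succ s.succ =
      (hᴴ * M.submatrix Fin.succ Fin.succ * h) a s := by
  simp [Matrix.mul_apply, Fin.sum_univ_succ, diag1_zero_succ, diag1_succ_succ]

/-- Upper unitriangular with arbitrary first row. -/
def rowT (t : Fin l → F) : Matrix (Fin (l + 1)) (Fin (l + 1)) F :=
  Matrix.of (Fin.cons (Fin.cons 1 t) (fun i => Fin.cons 0 ((1 : Matrix (Fin l) (Fin l) F) i)))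

theorem rowT_zero_zero (t : Fin l → F) : rowT t 0 0 = 1 := by simp [rowT]

theorem rowT_zero_succ (t : Fin l → F) (j : Fin l) : rowT t 0 j.succ = t j := by simp [rowT]

theorem rowT_succ_zero (t : Fin l → F) (i : Fin l) : rowT t i.succ 0 = 0 := by simp [rowT]

theorem rowT_succ_succ (t : Fin l → F) (i j : Fin l) :
    rowT t i.succ j.succ = (1 : Matrix (Fin l) (Fin l) F) i j := by simp [rowT]

theorem rowT_det (t : Fin l → F) : (rowT t).det = 1 := by
  rw [Matrix.det_succ_column_zero, Fin.sum_univ_succ]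
  have h0 : (rowT t).submatrix Fin.succ Fin.succ = 1 := by
    ext i j; simp [rowT_succ_succ]
  simp [h0, rowT_zero_zero, rowT_succ_zero]

theorem rowT_congr_zero_zero (t : Fin l → F) (M : Matrix (Fin (l + 1)) (Fin (l + 1)) F) :
    ((rowT t)ᴴ * M * rowT t) 0 0 = M 0 0 := by
  simp [Matrix.mul_apply, Fin.sum_univ_succ, rowT_zero_zero, rowT_succ_zero]

theorem rowT_congr_zero_succ (t : Fin l → F) (M : Matrix (Fin (l + 1)) (Fin (l + 1)) F)
    (s : Fin l) : ((rowT t)ᴴ * M * rowT t) 0 s.succ = M 0 0 * t s + M 0 s.succ := by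
  simp [Matrix.mul_apply, Fin.sum_univ_succ, rowT_zero_zero, rowT_zero_succ, rowT_succ_zero,
    rowT_succ_succ, Matrix.one_apply]

theorem herm_mat_entry {m : Type*} [Fintype m] (g K : Matrix m m F) (a b : m) :
    (gᴴ * K * g) a b = star (fun i => g i a) ⬝ᵥ (K *ᵥ fun i => g i b) := by
  rw [Matrix.mul_assoc, Matrix.mul_apply]
  rfl

/-- The bound for invertible matrices. -/
def BoundGL (F : Type*) [Field F] [Fintype F] [StarRing F] (q l : ℕ) : Prop :=
  ∀ K : Matrix (Fin l) (Fin l) F, Kᴴ = K → K ≠ 0 →
    q ^ (2 * l) ≤ (q + 1) * (congrOrbit {g | g.det ≠ 0} K).card + 1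

/-- The bound for matrices of determinant one. -/
def BoundSL (F : Type*) [Field F] [Fintype F] [StarRing F] (q l : ℕ) : Prop :=
  ∀ K : Matrix (Fin l) (Fin l) F, Kᴴ = K → K ≠ 0 →
    q ^ (2 * l) ≤ (q + 1) * (congrOrbit {g | g.det = 1} K).card + 1

theorem boundGL_one (hstar : ∀ x : F, star x = x ^ q) (hF : Fintype.card F = q ^ 2) :
    BoundGL F q 1 := by
  classical
  intro K hK hK0
  have hk : K 0 0 ≠ 0 := fun h => hK0 (by
    ext i j; rw [Subsingleton.elim i 0, Subsingleton.elim j 0, h]; rfl)
  have hkf : star (K 0 0) = K 0 0 := by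
    conv_rhs => rw [← hK]
    rfl
  have h1 : (Finset.univ.filter fun a : F => a ≠ 0 ∧ star a = a).card ≤
      (congrOrbit {g | g.det ≠ 0} K).card := by
    refine Finset.card_le_card_of_injOn (fun a => Matrix.of fun _ _ => a) (fun a ha => ?_)
      (fun a _ b _ h => congrFun (congrFun h 0) 0)
    simp only [Finset.coe_filter, Finset.mem_univ, true_and, Set.mem_setOf_eq] at ha
    obtain ⟨c, hc0, hc⟩ := Hermitian.exists_norm hstar hF (div_ne_zero ha.1 hk)
      (by rw [star_div₀, ha.2, hkf])
    rw [Finset.mem_coe, mem_congrOrbit]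
    refine ⟨Matrix.of fun _ _ => c, by simpa [Matrix.det_fin_one] using hc0, ?_⟩
    ext i j
    rw [Subsingleton.elim i 0, Subsingleton.elim j 0]
    simp [Matrix.mul_apply]
    rw [mul_right_comm, hc, div_mul_cancel₀ _ hk]
  have h2 := (card_fixed_units_ge hstar hF).trans h1
  have hq := Hermitian.q_two_le hF
  have h3 := Hermitian.sq_sub_one q
  have h4 : (q + 1) * (q - 1) ≤ (q + 1) * (congrOrbit {g | g.det ≠ 0} K).card :=
    Nat.mul_le_mul_left _ h2
  have h5 : 1 ≤ q ^ 2 := Nat.one_le_pow _ _ (by omega)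
  rw [mul_one]
  omega

/-- A vector of nonzero value. -/
theorem exists_value (hstar : ∀ x : F, star x = x ^ q) (hF : Fintype.card F = q ^ 2) {m : Type*}
    [Fintype m] [DecidableEq m] (K : Matrix m m F) (hK : Kᴴ = K) (hK0 : K ≠ 0) :
    ∃ v : m → F, star v ⬝ᵥ (K *ᵥ v) ≠ 0 := by
  by_contra! hall
  apply hK0
  ext i j
  by_contra hij
  change K i j ≠ 0 at hij
  obtain ⟨c, hc⟩ := Hermitian.exists_trace_ne hstar hF hij
  have hd : ∀ a, K a a = 0 := fun a => by
    have := hall (Pi.single a 1)
    simpa [Matrix.mulVec_single, dotProduct, Pi.single_apply, apply_ite star] using this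
  have hsym : K j i = star (K i j) := by
    conv_lhs => rw [← hK]
    rfl
  apply hc
  have := hall (Pi.single i c + Pi.single j 1)
  simp [Matrix.mulVec_add, Matrix.mulVec_single, dotProduct, Pi.single_apply, apply_ite star,
    add_mul, mul_add, Finset.sum_add_distrib, hd, hsym] at this
  simp only [star_mul', star_star] at *
  linear_combination this

theorem boundSL_succ (hstar : ∀ x : F, star x = x ^ q) (hF : Fintype.card F = q ^ 2) (l : ℕ)
    (ih : BoundGL F q (l + 1)) : BoundSL F q (l + 2) := by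
  classical
  intro K hK hK0
  have hq := Hermitian.q_two_le hF
  set O := congrOrbit {g : Matrix (Fin (l + 2)) (Fin (l + 2)) F | g.det = 1} K with hO
  -- nonzero values in the corner
  set A := O.filter fun M => M 0 0 ≠ 0 with hA
  set B := O.filter fun M => ¬ M 0 0 ≠ 0 with hB
  have hAB : A.card + B.card = O.card :=
    Finset.card_filter_add_card_filter_not (s := O) (fun M => M 0 0 ≠ 0)
  have hAcard : (q - 1) * q ^ (2 * (l + 1)) ≤ A.card := by
    let T : Finset (F × (Fin (l + 1) → F)) :=
      (Finset.univ.filter fun a : F => a ≠ 0 ∧ star a = a) ×ˢ Finset.univ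
    have hT : (q - 1) * q ^ (2 * (l + 1)) ≤ T.card := by
      rw [Finset.card_product, Finset.card_univ, Fintype.card_fun, Fintype.card_fin, hF,
        ← pow_mul]
      exact Nat.mul_le_mul_right _ (card_fixed_units_ge hstar hF)
    refine hT.trans ?_
    refine Finset.card_le_card_of_surjOn (fun M => (M 0 0, fun s => M 0 s.succ)) ?_
    rintro ⟨a, b⟩ hab
    simp only [T, Finset.coe_product, Set.mem_prod, Finset.coe_filter, Finset.mem_univ, true_and,
      Set.mem_setOf_eq, Finset.coe_univ, Set.mem_univ, and_true] at hab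
    obtain ⟨v, hv⟩ := exists_value hstar hF K hK hK0
    have hvs : star (star v ⬝ᵥ (K *ᵥ v)) = star v ⬝ᵥ (K *ᵥ v) := by
      rw [← star_dotProduct_star, star_star, Matrix.star_mulVec, hK, ← Matrix.dotProduct_mulVec]
    obtain ⟨c, hc0, hc⟩ := Hermitian.exists_norm hstar hF (div_ne_zero hab.1 hv)
      (by rw [star_div₀, hab.2, hvs])
    have hv0 : v ≠ 0 := fun h => hv (by simp [h])
    obtain ⟨g0, hg0, hcol⟩ := exists_det_one_col (c • v) (smul_ne_zero hc0 hv0)
    set M0 := g0ᴴ * K * g0 with hM0
    have hM00 : M0 0 0 = a := by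
      rw [hM0, herm_mat_entry, show (fun i => g0 i 0) = c • v from funext hcol, star_smul,
        smul_dotProduct, Matrix.mulVec_smul, dotProduct_smul, smul_eq_mul, smul_eq_mul, ← mul_assoc,
        hc, div_mul_cancel₀ _ hv]
    let t : Fin (l + 1) → F := fun s => (b s - M0 0 s.succ) / a
    refine ⟨(rowT t)ᴴ * M0 * rowT t, ?_, ?_⟩
    · rw [Finset.mem_coe, hA, Finset.mem_filter, hO, mem_congrOrbit]
      refine ⟨⟨g0 * rowT t, by
        simp only [Set.mem_setOf_eq, Matrix.det_mul, hg0, rowT_det, one_mul], ?_⟩, ?_⟩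
      · simp [hM0, Matrix.conjTranspose_mul, Matrix.mul_assoc]
      · rw [rowT_congr_zero_zero, hM00]; exact hab.1
    · refine Prod.ext ?_ (funext fun s => ?_)
      · exact (rowT_congr_zero_zero t M0).trans hM00
      · change ((rowT t)ᴴ * M0 * rowT t) 0 s.succ = b s
        rw [rowT_congr_zero_succ, hM00]
        simp only [t]
        rw [mul_div_cancel₀ _ hab.1, sub_add_cancel]
  have hBcard : q ^ (2 * (l + 1)) ≤ (q + 1) * B.card + 1 := by
    by_cases hdet : K.det = 0
    · obtain ⟨v, hv0, hv⟩ := Matrix.exists_mulVec_eq_zero_iff.mpr hdet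
      obtain ⟨g0, hg0, hcol⟩ := exists_det_one_col v hv0
      set M0 := g0ᴴ * K * g0 with hM0
      have hMh : M0ᴴ = M0 := by simp [hM0, Matrix.conjTranspose_mul, hK, Matrix.mul_assoc]
      have hrow : ∀ a, M0 a 0 = 0 := fun a => by
        rw [hM0, herm_mat_entry, show (fun i => g0 i 0) = v from funext hcol, hv, dotProduct_zero]
      have hcol0 : ∀ a, M0 0 a = 0 := fun a => by
        rw [← hMh, Matrix.conjTranspose_apply, hrow, star_zero]
      set K' := M0.submatrix Fin.succ Fin.succ with hK'
      have hK'h : K'ᴴ = K' := by rw [hK', Matrix.conjTranspose_submatrix, hMh]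
      have hK'0 : K' ≠ 0 := by
        intro h
        apply hK0
        have hM00 : M0 = 0 := by
          ext a b
          refine Fin.cases (hcol0 b) (fun a => ?_) a
          refine Fin.cases (hrow _) (fun b => ?_) b
          exact congrFun (congrFun h a) b
        have hu : IsUnit g0 := (Matrix.isUnit_iff_isUnit_det _).mpr (by rw [hg0]; exact isUnit_one)
        have hu' : IsUnit g0ᴴ := (Matrix.isUnit_iff_isUnit_det _).mpr (by
          rw [Matrix.det_conjTranspose, hg0, star_one]; exact isUnit_one)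
        rw [hM0] at hM00
        exact hu'.mul_right_eq_zero.mp (hu.mul_left_eq_zero.mp hM00)
      refine (ih K' hK'h hK'0).trans (Nat.add_le_add_right (Nat.mul_le_mul_left _ ?_) 1)
      refine Finset.card_le_card_of_surjOn (fun M => M.submatrix Fin.succ Fin.succ) ?_
      intro N hN
      rw [Finset.mem_coe, mem_congrOrbit] at hN
      obtain ⟨h, hh, rfl⟩ := hN
      refine ⟨(diag1 h.det⁻¹ h)ᴴ * M0 * diag1 h.det⁻¹ h, ?_, ?_⟩
      · rw [Finset.mem_coe, hB, Finset.mem_filter, hO, mem_congrOrbit]
        refine ⟨⟨g0 * diag1 h.det⁻¹ h, ?_, ?_⟩, ?_⟩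
        · simp only [Set.mem_setOf_eq, Matrix.det_mul, hg0, diag1_det, one_mul]
          exact inv_mul_cancel₀ hh
        · simp [hM0, Matrix.conjTranspose_mul, Matrix.mul_assoc]
        · rw [diag1_congr_zero_zero, hrow]; simp
      · ext a b
        exact diag1_congr_succ_succ _ _ _ a b
    · obtain ⟨P, hP, hP1⟩ := Hermitian.exists_congr_one hstar hF (l + 2) K hK
        ((Matrix.isUnit_iff_isUnit_det _).mpr (Ne.isUnit hdet))
      obtain ⟨a, ha⟩ := exists_neg_norm hstar hF (r := (-1 : F)) (by simp)
      let w : Fin (l + 2) → F := Pi.single 0 1 + Pi.single 1 a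
      have hw0 : w ≠ 0 := fun h => by
        have := congrFun h 0
        simp [w] at this
      set v := P *ᵥ w with hv
      have hv0 : v ≠ 0 := fun h => hw0 (Matrix.mulVec_injective_iff_isUnit.mpr hP
        (h.trans (Matrix.mulVec_zero P).symm))
      have hvv : star v ⬝ᵥ (K *ᵥ v) = 0 := by
        rw [hv, Matrix.star_mulVec, ← Matrix.dotProduct_mulVec, Matrix.mulVec_mulVec,
          Matrix.mulVec_mulVec, hP1, Matrix.one_mulVec]
        simp [w, dotProduct, Pi.single_apply, apply_ite star, Finset.sum_add_distrib, add_mul,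
          mul_add, ha]
      obtain ⟨g0, hg0, hcol⟩ := exists_det_one_col v hv0
      set M0 := g0ᴴ * K * g0 with hM0
      have hM00 : M0 0 0 = 0 := by
        rw [hM0, herm_mat_entry, show (fun i => g0 i 0) = v from funext hcol, hvv]
      let b0 : Fin (l + 1) → F := fun s => M0 0 s.succ
      have hb0 : b0 ≠ 0 := by
        intro h
        have hd : M0.det = 0 := Matrix.det_eq_zero_of_row_eq_zero 0 fun s => by
          refine Fin.cases hM00 (fun s => ?_) s
          exact congrFun h s
        rw [hM0, Matrix.det_mul, Matrix.det_mul, Matrix.det_conjTranspose, hg0, star_one, one_mul,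
          mul_one] at hd
        exact hdet hd
      -- the first rows obtained
      have hreach : ∀ h : Matrix (Fin (l + 1)) (Fin (l + 1)) F, h.det ≠ 0 →
          (fun s => star h.det⁻¹ * (b0 ᵥ* h) s) ∈ B.image fun M s => M 0 (Fin.succ s) := by
        intro h hh
        rw [Finset.mem_image]
        refine ⟨(diag1 h.det⁻¹ h)ᴴ * M0 * diag1 h.det⁻¹ h, ?_, ?_⟩
        · rw [hB, Finset.mem_filter, hO, mem_congrOrbit]
          refine ⟨⟨g0 * diag1 h.det⁻¹ h, ?_, ?_⟩, ?_⟩
          · simp only [Set.mem_setOf_eq, Matrix.det_mul, hg0, diag1_det, one_mul]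
            exact inv_mul_cancel₀ hh
          · simp [hM0, Matrix.conjTranspose_mul, Matrix.mul_assoc]
          · rw [diag1_congr_zero_zero, hM00]; simp
        · funext s
          rw [diag1_congr_zero_succ]
          simp [b0, Matrix.vecMul, dotProduct, Finset.mul_sum, mul_assoc]
      have himg : (B.image fun M s => M 0 (Fin.succ s)).card ≤ B.card := Finset.card_image_le
      rcases l with _ | l
      · -- one entry
        have hb : b0 0 ≠ 0 := fun h => hb0 (funext fun s => by rw [Fin.fin_one_eq_zero s, h]; rfl)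
        have h1 := IsCyclic.card_powMonoidHom_range (G := Fˣ) (q - 1)
        rw [Nat.card_units, Nat.card_eq_fintype_card (α := F), hF, Hermitian.sq_sub_one,
          Nat.gcd_mul_left_left, Nat.mul_div_cancel _ (by omega), Nat.card_eq_fintype_card,
          ← Finset.card_univ] at h1
        have h2 : q + 1 ≤ B.card := by
          rw [← h1]
          refine le_trans ?_ himg
          refine Finset.card_le_card_of_injOn (fun u _ => ((u.1 : Fˣ) : F)⁻¹ * b0 0)
            (fun u _ => ?_) (fun u _ v _ he => Subtype.ext (Units.ext (inv_injective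
              (mul_right_cancel₀ hb (congrFun he 0)))))
          obtain ⟨u, w, rfl⟩ := u
          have := hreach (Matrix.of fun _ _ => (w : F)) (by simp [Matrix.det_fin_one])
          rw [Finset.mem_coe]
          convert this using 1
          funext s
          rw [Fin.fin_one_eq_zero s]
          simp [Matrix.det_fin_one, Matrix.vecMul, dotProduct, hstar]
          have hw := Units.ne_zero w
          have e : (w : F) ^ q = (w : F) ^ (q - 1) * w := by
            rw [← pow_succ, Nat.sub_add_cancel (by omega)]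
          rw [e]
          field_simp
        calc q ^ (2 * (0 + 1)) ≤ (q + 1) * (q - 1) + 1 := by
              have := Hermitian.sq_sub_one q
              have : 1 ≤ q ^ 2 := Nat.one_le_pow _ _ (by omega)
              simp only [Nat.zero_add, Nat.mul_one]
              omega
          _ ≤ _ := Nat.add_le_add_right (Nat.mul_le_mul_left _ (by omega)) 1
      · -- transitivity on nonzero rows
        have h1 : (Finset.univ.filter fun c : Fin (l + 2) → F => c ≠ 0).card ≤ B.card := by
          refine le_trans (Finset.card_le_card fun c hc => ?_) himg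
          rw [Finset.mem_filter] at hc
          obtain ⟨A1, hA1, hA1c⟩ := exists_det_one_col b0 hb0
          obtain ⟨A2, hA2, hA2c⟩ := exists_det_one_col c hc.2
          have hd : (A2 * A1.adjugate)ᵀ.det = 1 := by
            rw [Matrix.det_transpose, Matrix.det_mul, Matrix.det_adjugate, hA1, hA2, one_pow,
              mul_one]
          have := hreach (A2 * A1.adjugate)ᵀ (by rw [hd]; exact one_ne_zero)
          rw [hd, inv_one, star_one] at this
          convert this using 1
          funext s
          rw [one_mul, Matrix.vecMul_transpose, ← Matrix.mulVec_mulVec]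
          have hb : b0 = A1 *ᵥ Pi.single 0 1 := by
            rw [Matrix.mulVec_single_one]; funext i; exact (hA1c i).symm
          rw [hb, Matrix.mulVec_mulVec _ A1.adjugate A1, Matrix.adjugate_mul, hA1, one_smul,
            Matrix.one_mulVec, Matrix.mulVec_single_one]
          exact (hA2c s).symm
        have h2 : (Finset.univ.filter fun c : Fin (l + 2) → F => c ≠ 0).card + 1 =
            q ^ (2 * (l + 2)) := by
          rw [Finset.filter_ne' Finset.univ, Finset.card_erase_of_mem (Finset.mem_univ _),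
            Finset.card_univ, Fintype.card_fun, Fintype.card_fin, hF, ← pow_mul]
          have : 1 ≤ q ^ (2 * (l + 2)) := Nat.one_le_pow _ _ (by omega)
          omega
        calc q ^ (2 * (l + 1 + 1)) ≤ 1 * B.card + 1 := by
              rw [← h2, one_mul]; exact Nat.add_le_add_right h1 1
          _ ≤ _ := Nat.add_le_add_right (Nat.mul_le_mul_right _ (by omega)) 1
  calc q ^ (2 * (l + 2)) = (q + 1) * ((q - 1) * q ^ (2 * (l + 1))) + q ^ (2 * (l + 1)) := by
        obtain ⟨r, rfl⟩ : ∃ r, q = r + 1 := ⟨q - 1, by omega⟩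
        rw [Nat.add_sub_cancel]
        ring
    _ ≤ (q + 1) * A.card + ((q + 1) * B.card + 1) :=
        Nat.add_le_add (Nat.mul_le_mul_left _ hAcard) hBcard
    _ = (q + 1) * O.card + 1 := by rw [← hAB]; ring

theorem boundGL (hstar : ∀ x : F, star x = x ^ q) (hF : Fintype.card F = q ^ 2) :
    ∀ l, BoundGL F q (l + 1)
  | 0 => boundGL_one hstar hF
  | l + 1 => fun K hK hK0 =>
    (boundSL_succ hstar hF l (boundGL hstar hF l) K hK hK0).trans (Nat.add_le_add_right
      (Nat.mul_le_mul_left _ (Finset.card_le_card fun M hM => by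
        rw [mem_congrOrbit] at hM ⊢
        obtain ⟨g, hg, hgM⟩ := hM
        refine ⟨g, ?_, hgM⟩
        simp only [Set.mem_setOf_eq] at hg ⊢
        rw [hg]
        exact one_ne_zero)) 1)

theorem boundSL (hstar : ∀ x : F, star x = x ^ q) (hF : Fintype.card F = q ^ 2) (l : ℕ) :
    BoundSL F q (l + 2) :=
  boundSL_succ hstar hF l (boundGL hstar hF l)

/-! ### Characters of the skew-Hermitian matrices -/

/-- Skew-Hermitian matrices. -/
def skewH (F : Type*) [Field F] [StarRing F] (l : ℕ) : AddSubgroup (Matrix (Fin l) (Fin l) F) where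
  carrier := {H | Hᴴ = -H}
  zero_mem' := by simp
  add_mem' := fun {a b} ha hb => by
    simp only [Set.mem_setOf_eq] at ha hb ⊢
    rw [Matrix.conjTranspose_add, ha, hb, neg_add]
  neg_mem' := fun {a} ha => by
    simp only [Set.mem_setOf_eq] at ha ⊢
    rw [Matrix.conjTranspose_neg, ha]

/-- The character attached to a matrix. -/
def pairing (ψ : AddChar F ℂ) (K : Matrix (Fin l) (Fin l) F) : AddChar (skewH F l) ℂ :=
  ψ.compAddMonoidHom
    { toFun := fun H => (K * (H : Matrix (Fin l) (Fin l) F)).trace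
      map_zero' := by simp
      map_add' := fun a b => by simp [Matrix.mul_add, Matrix.trace_add] }

theorem pairing_apply (ψ : AddChar F ℂ) (K : Matrix (Fin l) (Fin l) F) (H : skewH F l) :
    pairing ψ K H = ψ (K * (H : Matrix (Fin l) (Fin l) F)).trace := rfl

theorem pairing_exists (hstar : ∀ x : F, star x = x ^ q) (hF : Fintype.card F = q ^ 2) {θ : F}
    (hθ0 : θ ≠ 0) (hθ : star θ = -θ) {ψ : AddChar F ℂ} (hψ : ψ θ ≠ 1)
    (φ : AddChar (skewH F l) ℂ) : ∃ K : Matrix (Fin l) (Fin l) F, Kᴴ = K ∧ pairing ψ K = φ := by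
  classical
  have hinj : Function.Injective
      (fun K : {K : Matrix (Fin l) (Fin l) F // Kᴴ = K} => pairing ψ K.1) := by
    rintro ⟨K, hK⟩ ⟨K', hK'⟩ h
    by_contra hne
    obtain ⟨j, i, hji⟩ : ∃ j i, (K - K') j i ≠ 0 := by
      by_contra! hall
      exact hne (Subtype.ext (Matrix.ext fun a b => sub_eq_zero.mp (hall a b)))
    set D := K - K' with hD
    have hDh : D i j = star (D j i) := by
      have : Dᴴ = D := by rw [hD, Matrix.conjTranspose_sub, hK, hK']
      conv_lhs => rw [← this]
      rfl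
    obtain ⟨c0, hc0⟩ := exists_trace hstar hF (r := (1 : F)) (by simp)
    set c := c0 / D j i with hc
    let H : Matrix (Fin l) (Fin l) F := θ • (Matrix.single i j c + Matrix.single j i (star c))
    have hH : H ∈ skewH F l := by
      change Hᴴ = -H
      simp [H, Matrix.conjTranspose_single, hθ, add_comm, ← Matrix.single_neg]
    have htr : (D * H).trace = θ := by
      simp only [H, Matrix.mul_smul, Matrix.trace_smul, Matrix.mul_add, Matrix.trace_add,
        Matrix.trace_mul_single, smul_eq_mul, hDh]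
      rw [op_smul_eq_mul, op_smul_eq_mul, ← star_mul' (D j i) c, hc,
        mul_div_cancel₀ _ hji, hc0, mul_one]
    have h1 := DFunLike.congr_fun h ⟨H, hH⟩
    simp only [pairing_apply] at h1
    apply hψ
    rw [← htr, hD, Matrix.sub_mul, Matrix.trace_sub, AddChar.map_sub_eq_div, h1, div_self]
    exact (ψ.val_isUnit _).ne_zero
  have hcard : Nat.card {K : Matrix (Fin l) (Fin l) F // Kᴴ = K} =
      Nat.card (AddChar (skewH F l) ℂ) := by
    rw [Nat.card_eq_fintype_card (α := AddChar _ ℂ), AddChar.card_eq, ← Nat.card_eq_fintype_card]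
    refine Nat.card_congr
      { toFun := fun K => ⟨θ • K.1, show (θ • K.1)ᴴ = -(θ • K.1) by
          rw [Matrix.conjTranspose_smul, K.2, hθ, neg_smul]⟩
        invFun := fun H => ⟨θ⁻¹ • H.1, by
          rw [Matrix.conjTranspose_smul, star_inv₀, hθ, inv_neg, show (H.1)ᴴ = -H.1 from H.2,
            smul_neg, neg_smul, neg_neg]⟩
        left_inv := fun K => Subtype.ext (inv_smul_smul₀ hθ0 K.1)
        right_inv := fun H => Subtype.ext (smul_inv_smul₀ hθ0 H.1) }
  obtain ⟨⟨K, hK⟩, h⟩ := ((Nat.bijective_iff_injective_and_card _).mpr ⟨hinj, hcard⟩).2 φ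
  exact ⟨K, hK, h⟩

end Cfsg.Agent.Small.Unitary
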