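import Mathlib
import Cfsg.Agent.Lib.Small.Unitary.Orbits

/-!
Lower bounds for the degrees of nonlinear irreducible complex representations of `SU_n(q)`, by
restriction to the abelian radical of the stabiliser of a maximal totally isotropic subspace.
-/

set_option autoImplicit false
set_option linter.unusedSectionVars false

namespace Cfsg.Agent.Small.Unitary

open Matrix

/-! ### Linear algebra -/

theorem eigen_sum_zero {V : Type*} [AddCommGroup V] [Module ℂ V] {A ι : Type*}
    (T : A → Module.End ℂ V) (s : Finset ι) :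
    ∀ (v : ι → V) (lam : ι → A → ℂ), (∀ i ∈ s, ∀ a, T a (v i) = lam i a • v i) →
      Set.InjOn lam (s : Set ι) → ∑ i ∈ s, v i = 0 → ∀ i ∈ s, v i = 0 := by
  classical
  induction s using Finset.induction_on with
  | empty => simp
  | insert b s hb ih =>
    intro v lam hev hinj hsum
    have key : ∀ i ∈ s, v i = 0 := by
      intro i hi
      obtain ⟨a, ha⟩ : ∃ a, lam i a ≠ lam b a := by
        by_contra! h
        have e : i = b := hinj (Finset.mem_insert_of_mem hi) (Finset.mem_insert_self b s) (funext h)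
        exact hb (e ▸ hi)
      have h0 : ∑ j ∈ s, (lam j a - lam b a) • v j = 0 := by
        have h1 : T a (∑ j ∈ insert b s, v j) - lam b a • (∑ j ∈ insert b s, v j) = 0 := by
          rw [hsum, map_zero, smul_zero, sub_zero]
        rw [map_sum, Finset.smul_sum, ← Finset.sum_sub_distrib, Finset.sum_insert hb,
          hev b (Finset.mem_insert_self b s), sub_self, zero_add] at h1
        rw [← h1]
        refine Finset.sum_congr rfl fun j hj => ?_
        rw [hev j (Finset.mem_insert_of_mem hj), sub_smul]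
      have h2 := ih (fun j => (lam j a - lam b a) • v j) lam
        (fun j hj a' => by
          rw [map_smul, hev j (Finset.mem_insert_of_mem hj), smul_comm])
        (hinj.mono (by simp)) h0 i hi
      exact (smul_eq_zero.mp h2).resolve_left (sub_ne_zero.mpr ha)
    intro i hi
    rcases Finset.mem_insert.mp hi with rfl | hi
    · rw [Finset.sum_insert hb, Finset.sum_eq_zero key, add_zero] at hsum
      exact hsum
    · exact key i hi

/-- A common eigenvector for a commuting family leaving a nonzero subspace invariant. -/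
theorem exists_common_eigenvector {V : Type*} [AddCommGroup V] [Module ℂ V]
    [FiniteDimensional ℂ V] {A : Type*} (T : A → Module.End ℂ V)
    (hcomm : ∀ a b v, T a (T b v) = T b (T a v)) (s : Finset A) :
    ∀ (W : Submodule ℂ V), W ≠ ⊥ → (∀ a, ∀ w ∈ W, T a w ∈ W) →
      ∃ v ∈ W, v ≠ 0 ∧ ∃ lam : A → ℂ, ∀ a ∈ s, T a v = lam a • v := by
  classical
  induction s using Finset.induction_on with
  | empty =>
    intro W hW _
    obtain ⟨v, hv, hv0⟩ := Submodule.exists_mem_ne_zero_of_ne_bot hW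
    exact ⟨v, hv, hv0, fun _ => 0, by simp⟩
  | insert b s hb ih =>
    intro W hW hinv
    have : Nontrivial W := Submodule.nontrivial_iff_ne_bot.mpr hW
    obtain ⟨c, hc⟩ := Module.End.exists_eigenvalue ((T b).restrict (hinv b))
    obtain ⟨u, hu⟩ := hc.exists_hasEigenvector
    set W' := W ⊓ Module.End.eigenspace (T b) c
    have hu' : (u : V) ∈ W' := ⟨u.2, Module.End.mem_eigenspace_iff.mpr
      (congrArg Subtype.val hu.apply_eq_smul)⟩
    have hW' : W' ≠ ⊥ := fun h => hu.2 (Subtype.ext (by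
      rw [h, Submodule.mem_bot] at hu'
      exact hu'))
    obtain ⟨v, hv, hv0, lam, hlam⟩ := ih W' hW' (fun a w hw => ⟨hinv a w hw.1,
      Module.End.mem_eigenspace_iff.mpr (by
        rw [hcomm, Module.End.mem_eigenspace_iff.mp hw.2, map_smul])⟩)
    refine ⟨v, hv.1, hv0, Function.update lam b c, fun a ha => ?_⟩
    rcases Finset.mem_insert.mp ha with rfl | ha'
    · rw [Function.update_self]; exact Module.End.mem_eigenspace_iff.mp hv.2
    · rw [Function.update_of_ne (show a ≠ b from fun h => hb (h ▸ ha'))]; exact hlam a ha'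

/-- Some nonprincipal character occurs, if the group acts nontrivially. -/
theorem exists_char_eigenvector {V : Type*} [AddCommGroup V] [Module ℂ V] {H : Type*}
    [AddCommGroup H] [Finite H] (T : H → Module.End ℂ V) (hT : ∀ a b, T (a + b) = T a * T b)
    (hne : ∃ a, T a ≠ 1) (h0 : T 0 = 1) :
    ∃ (φ : AddChar H ℂ) (v : V), φ ≠ 0 ∧ v ≠ 0 ∧ ∀ a, T a v = φ a • v := by
  classical
  have := Fintype.ofFinite H
  by_contra! hcon
  let P : AddChar H ℂ → Module.End ℂ V := fun φ => ∑ a, φ (-a) • T a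
  have hP : ∀ φ b, T b * P φ = φ b • P φ := by
    intro φ b
    simp only [P, Finset.mul_sum, Finset.smul_sum, mul_smul_comm, ← hT, smul_smul]
    refine Fintype.sum_equiv (Equiv.addLeft b) _ _ fun a => ?_
    rw [Equiv.coe_addLeft, ← AddChar.map_add_eq_mul]
    congr 2
    simp only [neg_add_rev]
    abel
  have hzero : ∀ φ : AddChar H ℂ, φ ≠ 0 → P φ = 0 := by
    intro φ hφ
    ext v
    rw [LinearMap.zero_apply]
    by_contra hv
    obtain ⟨b, hb⟩ := hcon φ (P φ v) hφ hv
    exact hb (congrFun (congrArg DFunLike.coe (hP φ b)) v)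
  have hsum : ∑ φ : AddChar H ℂ, P φ = (Fintype.card H : ℂ) • (1 : Module.End ℂ V) := by
    simp only [P]
    rw [Finset.sum_comm]
    simp only [← Finset.sum_smul, AddChar.sum_apply_eq_ite, neg_eq_zero, ite_smul, zero_smul,
      Finset.sum_ite_eq', Finset.mem_univ, if_true, h0]
  rw [Fintype.sum_eq_single (0 : AddChar H ℂ) hzero] at hsum
  obtain ⟨b, hb⟩ := hne
  apply hb
  have h1 := hP 0 b
  rw [hsum, AddChar.zero_apply, one_smul, mul_smul_comm, mul_one] at h1
  exact smul_right_injective _ (Nat.cast_ne_zero.mpr Fintype.card_ne_zero) h1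

theorem degree_le_one_of_trivial {G : Type*} [Group G] {k : ℕ}
    (ρ : Representation ℂ G (Fin k → ℂ)) (hirr : ρ.IsIrreducible) (h : ∀ g, ρ g = 1) : k ≤ 1 := by
  by_contra hk
  have := hirr
  let v : Fin k → ℂ := Pi.single ⟨0, by omega⟩ 1
  let S : Subrepresentation ρ := ⟨Submodule.span ℂ {v}, fun g w hw => by rw [h g]; exact hw⟩
  rcases IsSimpleOrder.eq_bot_or_eq_top S with hS | hS
  · have h1 : Submodule.span ℂ {v} = ⊥ := congrArg Subrepresentation.toSubmodule hS
    rw [Submodule.span_singleton_eq_bot] at h1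
    have := congrFun h1 ⟨0, by omega⟩
    simp [v] at this
  · have h1 : Submodule.span ℂ {v} = ⊤ := congrArg Subrepresentation.toSubmodule hS
    have h2 : Module.finrank ℂ (Submodule.span ℂ {v}) ≤ 1 :=
      (finrank_span_le_card ({v} : Set (Fin k → ℂ))).trans (by simp)
    rw [h1, finrank_top, Module.finrank_fin_fun] at h2
    omega

/-! ### The radical and its normaliser -/

variable {F : Type*} [Field F] [Fintype F] [StarRing F] {n q l : ℕ}
variable (hstar : ∀ x : F, star x = x ^ q)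

/-- The element attached to a skew-Hermitian matrix and a totally isotropic frame. -/
def radElem (E : Matrix (Fin n) (Fin l) F) (hE : Eᴴ * E = 0) (H : skewH F l) : Cfsg.SU n F q :=
  mkSU hstar (1 + E * H.1 * Eᴴ)
    (by
      rw [Matrix.conjTranspose_add, Matrix.conjTranspose_one, Matrix.conjTranspose_mul,
        Matrix.conjTranspose_mul, Matrix.conjTranspose_conjTranspose,
        show H.1ᴴ = -H.1 from H.2, ← Matrix.mul_assoc]
      have : E * -H.1 * Eᴴ * (E * H.1 * Eᴴ) = 0 := by
        rw [Matrix.mul_assoc (E * -H.1), ← Matrix.mul_assoc Eᴴ, ← Matrix.mul_assoc Eᴴ, hE]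
        simp
      rw [add_mul, one_mul, mul_add, mul_one, this, add_zero]
      simp)
    (by rw [Matrix.mul_assoc, Matrix.det_one_add_mul_comm, Matrix.mul_assoc, hE]; simp)

theorem radElem_val (E : Matrix (Fin n) (Fin l) F) (hE : Eᴴ * E = 0) (H : skewH F l) :
    (radElem hstar E hE H).1.1 = 1 + E * H.1 * Eᴴ := rfl

theorem radElem_add (E : Matrix (Fin n) (Fin l) F) (hE : Eᴴ * E = 0) (H H' : skewH F l) :
    radElem hstar E hE (H + H') = radElem hstar E hE H * radElem hstar E hE H' := by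
  apply Subtype.ext
  apply Subtype.ext
  change 1 + E * (H.1 + H'.1) * Eᴴ = (1 + E * H.1 * Eᴴ) * (1 + E * H'.1 * Eᴴ)
  have : E * H.1 * Eᴴ * (E * H'.1 * Eᴴ) = 0 := by
    rw [Matrix.mul_assoc (E * H.1), ← Matrix.mul_assoc Eᴴ, ← Matrix.mul_assoc Eᴴ, hE]
    simp
  rw [add_mul, one_mul, mul_add (E * H.1 * Eᴴ), mul_one, this, Matrix.mul_add, Matrix.add_mul]
  abel

theorem radElem_zero (E : Matrix (Fin n) (Fin l) F) (hE : Eᴴ * E = 0) :
    radElem hstar E hE 0 = 1 := by
  apply Subtype.ext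
  apply Subtype.ext
  change 1 + E * (0 : Matrix (Fin l) (Fin l) F) * Eᴴ = 1
  simp

theorem trace_congr (K g H : Matrix (Fin l) (Fin l) F) :
    (K * (g * H * gᴴ)).trace = ((gᴴ * K * g) * H).trace := by
  rw [← Matrix.mul_assoc, Matrix.trace_mul_comm]
  simp only [Matrix.mul_assoc]

theorem congr_skew (g : Matrix (Fin l) (Fin l) F) (H : skewH F l) : g * H.1 * gᴴ ∈ skewH F l := by
  change (g * H.1 * gᴴ)ᴴ = -(g * H.1 * gᴴ)
  rw [Matrix.conjTranspose_mul, Matrix.conjTranspose_mul, Matrix.conjTranspose_conjTranspose,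
    show H.1ᴴ = -H.1 from H.2]
  simp [Matrix.mul_assoc]

theorem conj_radElem (E : Matrix (Fin n) (Fin l) F) (hE : Eᴴ * E = 0) (u : Cfsg.SU n F q)
    (g : Matrix (Fin l) (Fin l) F) (hu : u.1.1 * E = E * g) (H : skewH F l) :
    u * radElem hstar E hE H * u⁻¹ = radElem hstar E hE ⟨g * H.1 * gᴴ, congr_skew g H⟩ := by
  rw [mul_inv_eq_iff_eq_mul]
  apply Subtype.ext
  apply Subtype.ext
  change u.1.1 * (1 + E * H.1 * Eᴴ) = (1 + E * (g * H.1 * gᴴ) * Eᴴ) * u.1.1
  have h1 : (u.1.1 * E)ᴴ * u.1.1 = Eᴴ := by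
    rw [Matrix.conjTranspose_mul, Matrix.mul_assoc, conjTranspose_mul_self hstar, Matrix.mul_one]
  rw [hu, Matrix.conjTranspose_mul] at h1
  have h2 : E * (g * H.1 * gᴴ) * Eᴴ * u.1.1 = E * g * H.1 * Eᴴ := by
    calc E * (g * H.1 * gᴴ) * Eᴴ * u.1.1 = E * g * H.1 * (gᴴ * Eᴴ * u.1.1) := by
          simp only [Matrix.mul_assoc]
      _ = _ := by rw [h1]
  rw [mul_add, mul_one, add_mul, one_mul, h2, ← hu]
  simp only [Matrix.mul_assoc]

/-- The elements inducing `g` on the frame. -/
def Realised (E : Matrix (Fin n) (Fin l) F) (S : Set (Matrix (Fin l) (Fin l) F)) (q : ℕ) : Prop :=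
  ∀ g ∈ S, ∃ u : Cfsg.SU n F q, u.1.1 * E = E * g

section Bound

variable {k : ℕ} (ρ : Representation ℂ (Cfsg.SU n F q) (Fin k → ℂ))

theorem rho_inv_apply (u : Cfsg.SU n F q) (v : Fin k → ℂ) : ρ u (ρ u⁻¹ v) = v := by
  rw [← Module.End.mul_apply, ← map_mul, mul_inv_cancel, map_one]
  rfl

theorem orbit_bound {E : Matrix (Fin n) (Fin l) F} (hE : Eᴴ * E = 0)
    {S : Set (Matrix (Fin l) (Fin l) F)} (hS : Realised E S q) {θ : F} {ψ : AddChar F ℂ}
    (hinj : Function.Injective fun K : {K : Matrix (Fin l) (Fin l) F // Kᴴ = K} => pairing ψ K.1)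
    (hθ : star θ = -θ) (K : Matrix (Fin l) (Fin l) F) (hK : Kᴴ = K) {ι : Type*} [Fintype ι]
    (v : ι → Fin k → ℂ) (hv : LinearIndependent ℂ v)
    (hev : ∀ i H, ρ (radElem hstar E hE H) (v i) = pairing ψ K H • v i) :
    (congrOrbit S K).card * Fintype.card ι ≤ k := by
  classical
  have hO : ∀ M : congrOrbit S K, ∃ u : Cfsg.SU n F q,
      ∀ i H, ρ (radElem hstar E hE H) (ρ u (v i)) = pairing ψ M.1 H • ρ u (v i) := by
    rintro ⟨M, hM⟩
    obtain ⟨g, hg, rfl⟩ := mem_congrOrbit.mp hM
    obtain ⟨u, hu⟩ := hS g hg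
    refine ⟨u⁻¹, fun i H => ?_⟩
    have h1 : radElem hstar E hE H * u⁻¹ =
        u⁻¹ * radElem hstar E hE ⟨g * H.1 * gᴴ, congr_skew g H⟩ := by
      rw [← conj_radElem hstar E hE u g hu H]
      group
    rw [← Module.End.mul_apply, ← map_mul, h1, map_mul, Module.End.mul_apply, hev, map_smul,
      pairing_apply, pairing_apply]
    congr 2
    exact trace_congr K g H.1
  choose u hu using hO
  have hMh : ∀ M : congrOrbit S K, M.1ᴴ = M.1 := by
    rintro ⟨M, hM⟩
    obtain ⟨g, -, rfl⟩ := mem_congrOrbit.mp hM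
    simp [Matrix.conjTranspose_mul, hK, Matrix.mul_assoc]
  have hli : LinearIndependent ℂ fun p : congrOrbit S K × ι => ρ (u p.1) (v p.2) := by
    rw [Fintype.linearIndependent_iff]
    intro c hc
    rw [Fintype.sum_prod_type] at hc
    have hz := eigen_sum_zero (fun H => ρ (radElem hstar E hE H)) Finset.univ
      (fun M : congrOrbit S K => ∑ i, c (M, i) • ρ (u M) (v i))
      (fun M H => pairing ψ M.1 H)
      (fun M _ H => by
        rw [map_sum, Finset.smul_sum]
        refine Finset.sum_congr rfl fun i _ => ?_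
        rw [map_smul, hu M i H, smul_comm])
      (fun M _ M' _ h => by
        have h' := hinj (a₁ := ⟨M.1, hMh M⟩) (a₂ := ⟨M'.1, hMh M'⟩)
          (DFunLike.ext _ _ (congrFun h))
        exact Subtype.ext (Subtype.mk.inj h'))
      hc
    rintro ⟨M, i⟩
    have h1 : ∑ i, c (M, i) • v i = 0 := by
      have h2 := congrArg (ρ (u M)⁻¹) (hz M (Finset.mem_univ M))
      simp only [map_sum, map_smul, map_zero] at h2
      rw [← h2]
      refine Finset.sum_congr rfl fun i _ => ?_
      have h3 := rho_inv_apply ρ (u M)⁻¹ (v i)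
      rw [inv_inv] at h3
      rw [h3]
    exact Fintype.linearIndependent_iff.mp hv _ h1 i
  have := hli.fintype_card_le_finrank
  rwa [Fintype.card_prod, Fintype.card_coe, Module.finrank_fin_fun] at this

end Bound

/-! ### Frames -/

/-- A totally isotropic frame, its dual, and the coordinates it lives on. -/
structure Frame (n l : ℕ) (E D : Matrix (Fin n) (Fin l) F) : Prop where
  two_mul_le : 2 * l ≤ n
  isoE : Eᴴ * E = 0
  isoD : Dᴴ * D = 0
  dual : Eᴴ * D = 1
  supp : ∀ m : Fin n, 2 * l ≤ m.val → (∀ r, E m r = 0) ∧ ∀ r, D m r = 0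

theorem exists_frame (hF : Fintype.card F = q ^ 2) (hstar : ∀ x : F, star x = x ^ q)
    (h2 : 2 * l ≤ n) : ∃ E D : Matrix (Fin n) (Fin l) F, Frame n l E D := by
  classical
  let a : Fin l → Fin n := fun r => ⟨2 * r.val, by have := r.2; omega⟩
  let b : Fin l → Fin n := fun r => ⟨2 * r.val + 1, by have := r.2; omega⟩
  have hne : ∀ r, a r ≠ b r := fun r h => by simp [a, b, Fin.ext_iff] at h
  choose e f P using fun r => exists_pair hstar hF (hne r)
  have hdisj : ∀ r s : Fin l, r ≠ s → ∀ x y : Fin n → F, Supp {a r, b r} x → Supp {a s, b s} y →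
      herm x y = 0 := by
    intro r s hrs x y hx hy
    change ∑ m, star (x m) * y m = 0
    refine Finset.sum_eq_zero fun m _ => ?_
    by_cases hm : m ∈ ({a r, b r} : Finset (Fin n))
    · rw [hy m fun h => ?_, mul_zero]
      simp only [Finset.mem_insert, Finset.mem_singleton, a, b, Fin.ext_iff] at h hm
      exact hrs (Fin.ext (by omega))
    · rw [hx m hm, star_zero, zero_mul]
  have h0 : ∀ (x y : Fin l → Fin n → F) r s,
      ((Matrix.of fun m r => x r m)ᴴ * Matrix.of fun m r => y r m) r s = herm (x r) (y s) :=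
    fun x y r s => rfl
  refine ⟨Matrix.of fun m r => e r m, Matrix.of fun m r => f r m, h2, ?_, ?_, ?_, fun m hm =>
    ⟨fun r => ?_, fun r => ?_⟩⟩
  · ext r s
    rw [h0, Matrix.zero_apply]
    by_cases h : r = s
    · subst h; exact (P r).ee
    · exact hdisj r s h _ _ (P r).supp_e (P s).supp_e
  · ext r s
    rw [h0, Matrix.zero_apply]
    by_cases h : r = s
    · subst h; exact (P r).ff
    · exact hdisj r s h _ _ (P r).supp_f (P s).supp_f
  · ext r s
    rw [h0, Matrix.one_apply]
    split_ifs with h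
    · subst h; exact (P r).ef
    · exact hdisj r s h _ _ (P r).supp_e (P s).supp_f
  all_goals
    first
      | refine (P r).supp_e m ?_
      | refine (P r).supp_f m ?_
    simp only [Finset.mem_insert, Finset.mem_singleton, a, b, Fin.ext_iff]
    have := r.2
    omega

theorem Frame.dual' {E D : Matrix (Fin n) (Fin l) F} (h : Frame n l E D) : Dᴴ * E = 1 := by
  have := congrArg Matrix.conjTranspose h.dual
  rwa [Matrix.conjTranspose_mul, Matrix.conjTranspose_conjTranspose, Matrix.conjTranspose_one]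
    at this

theorem realised_sl (hstar : ∀ x : F, star x = x ^ q) {E D : Matrix (Fin n) (Fin l) F} (h : Frame n l E D) :
    Realised E {g | g.det = 1} q := by
  intro g hg
  simp only [Set.mem_setOf_eq] at hg
  let U : Matrix (Fin n) (Fin l ⊕ Fin l) F := Matrix.fromCols E D
  let J : Matrix (Fin l ⊕ Fin l) (Fin l ⊕ Fin l) F := Matrix.fromBlocks 0 1 1 0
  have hJ : Jᴴ = J := by simp [J, Matrix.fromBlocks_conjTranspose]
  have hJJ : J * J = 1 := by simp [J, Matrix.fromBlocks_multiply, Matrix.fromBlocks_one]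
  have hU : Uᴴ * U = J := by
    simp only [U, J]
    rw [Matrix.conjTranspose_fromCols_eq_fromRows_conjTranspose, Matrix.fromRows_mul_fromCols,
      h.isoE, h.isoD, h.dual, h.dual']
  have hgu : IsUnit g.det := by rw [hg]; exact isUnit_one
  let M : Matrix (Fin l ⊕ Fin l) (Fin l ⊕ Fin l) F := Matrix.fromBlocks g 0 0 (g⁻¹)ᴴ
  have hM : Mᴴ * J * M = J := by
    simp [M, J, Matrix.fromBlocks_conjTranspose, Matrix.fromBlocks_multiply,
      Matrix.nonsing_inv_mul _ hgu, ← Matrix.conjTranspose_mul]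
  have hMd : M.det = 1 := by
    simp [M, Matrix.det_fromBlocks_zero₂₁, Matrix.det_conjTranspose, Matrix.det_nonsing_inv, hg]
  refine ⟨emb hstar U J hJ hJJ hU M hM hMd, ?_⟩
  have h1 : embed U (J * Uᴴ) M * U = U * M := by
    rw [embed, Matrix.add_mul, Matrix.one_mul, Matrix.mul_assoc, Matrix.mul_assoc J, hU, hJJ,
      Matrix.mul_one, Matrix.mul_sub, Matrix.mul_one, add_sub_cancel]
  simp only [U, M] at h1
  rw [Matrix.mul_fromCols, Matrix.fromCols_mul_fromBlocks] at h1
  have h2 := (Matrix.fromCols_inj h1).1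
  simp only [Matrix.mul_zero, add_zero] at h2
  exact h2

theorem last_vec {E D : Matrix (Fin n) (Fin l) F} (h : Frame n l E D) (hn : n = 2 * l + 1) :
    ∃ w : Matrix (Fin n) Unit F, wᴴ * w = 1 ∧ Eᴴ * w = 0 ∧ Dᴴ * w = 0 := by
  let m0 : Fin n := ⟨2 * l, by omega⟩
  refine ⟨Matrix.of fun m _ => (Pi.single m0 (1 : F) : Fin n → F) m, ?_, ?_, ?_⟩
  · ext r s
    simp [Matrix.mul_apply, Pi.single_apply, apply_ite star]
  · ext r s
    simp [Matrix.mul_apply, Pi.single_apply, (h.supp m0 le_rfl).1 r]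
  · ext r s
    simp [Matrix.mul_apply, Pi.single_apply, (h.supp m0 le_rfl).2 r]

theorem realised_gl (hstar : ∀ x : F, star x = x ^ q) {E D : Matrix (Fin n) (Fin l) F} (h : Frame n l E D) (hn : n = 2 * l + 1) :
    Realised E {g | g.det ≠ 0} q := by
  intro g hg
  simp only [Set.mem_setOf_eq] at hg
  obtain ⟨w, hw, hEw, hDw⟩ := last_vec h hn
  have hwE : wᴴ * E = 0 := by
    have := congrArg Matrix.conjTranspose hEw
    rwa [Matrix.conjTranspose_mul, Matrix.conjTranspose_conjTranspose, Matrix.conjTranspose_zero]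
      at this
  have hwD : wᴴ * D = 0 := by
    have := congrArg Matrix.conjTranspose hDw
    rwa [Matrix.conjTranspose_mul, Matrix.conjTranspose_conjTranspose, Matrix.conjTranspose_zero]
      at this
  let U : Matrix (Fin n) ((Fin l ⊕ Fin l) ⊕ Unit) F := Matrix.fromCols (Matrix.fromCols E D) w
  let J₀ : Matrix (Fin l ⊕ Fin l) (Fin l ⊕ Fin l) F := Matrix.fromBlocks 0 1 1 0
  let J : Matrix ((Fin l ⊕ Fin l) ⊕ Unit) ((Fin l ⊕ Fin l) ⊕ Unit) F :=
    Matrix.fromBlocks J₀ 0 0 1
  have hJ : Jᴴ = J := by simp [J, J₀, Matrix.fromBlocks_conjTranspose]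
  have hJJ : J * J = 1 := by simp [J, J₀, Matrix.fromBlocks_multiply, Matrix.fromBlocks_one]
  have hU : Uᴴ * U = J := by
    simp only [U, J, J₀]
    rw [Matrix.conjTranspose_fromCols_eq_fromRows_conjTranspose, Matrix.fromRows_mul_fromCols,
      Matrix.conjTranspose_fromCols_eq_fromRows_conjTranspose, Matrix.fromRows_mul_fromCols,
      Matrix.fromRows_mul, Matrix.mul_fromCols, h.isoE, h.isoD, h.dual, h.dual', hw, hEw, hDw,
      hwE, hwD, Matrix.fromRows_zero, Matrix.fromCols_zero]
  set c : F := star g.det / g.det with hc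
  let M : Matrix ((Fin l ⊕ Fin l) ⊕ Unit) ((Fin l ⊕ Fin l) ⊕ Unit) F :=
    Matrix.fromBlocks (Matrix.fromBlocks g 0 0 (g⁻¹)ᴴ) 0 0 (Matrix.of fun _ _ => c)
  have hgu : IsUnit g.det := Ne.isUnit hg
  have hsg : star g.det ≠ 0 := star_ne_zero.mpr hg
  have hcc : star c * c = 1 := by
    rw [hc, star_div₀, star_star]; field_simp
  have hc1 : (Matrix.of fun _ _ => c : Matrix Unit Unit F)ᴴ *
      (Matrix.of fun _ _ => c : Matrix Unit Unit F) = 1 := by
    ext r s
    simp [Matrix.mul_apply, hcc]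
  have hM : Mᴴ * J * M = J := by
    simp [M, J, J₀, Matrix.fromBlocks_conjTranspose, Matrix.fromBlocks_multiply,
      Matrix.nonsing_inv_mul _ hgu, ← Matrix.conjTranspose_mul, hc1]
  have hMd : M.det = 1 := by
    simp [M, Matrix.det_fromBlocks_zero₂₁, Matrix.det_conjTranspose, Matrix.det_nonsing_inv, hc,
      star_inv₀]
    field_simp
  refine ⟨emb hstar U J hJ hJJ hU M hM hMd, ?_⟩
  have h1 : embed U (J * Uᴴ) M * U = U * M := by
    rw [embed, Matrix.add_mul, Matrix.one_mul, Matrix.mul_assoc, Matrix.mul_assoc J, hU, hJJ,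
      Matrix.mul_one, Matrix.mul_sub, Matrix.mul_one, add_sub_cancel]
  simp only [U, M] at h1
  rw [Matrix.mul_fromCols, Matrix.fromCols_mul_fromBlocks] at h1
  have h2 := (Matrix.fromCols_inj h1).1
  simp only [Matrix.mul_zero, add_zero] at h2
  rw [Matrix.mul_fromCols, Matrix.fromCols_mul_fromBlocks] at h2
  have h3 := (Matrix.fromCols_inj h2).1
  simp only [Matrix.mul_zero, add_zero] at h3
  exact h3

/-! ### A nontrivial character of the radical -/

theorem exists_psi (hF : Fintype.card F = q ^ 2) (hstar : ∀ x : F, star x = x ^ q) :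
    ∃ (θ β : F) (ψ : AddChar F ℂ), θ ≠ 0 ∧ star θ = -θ ∧ θ = β - star β ∧ ψ θ ≠ 1 := by
  obtain ⟨b, hb⟩ := Hermitian.exists_star_ne hstar hF
  have hθ0 : b - star b ≠ 0 := sub_ne_zero.mpr (Ne.symm hb)
  obtain ⟨ψ, hψ⟩ := AddChar.exists_apply_ne_zero.mpr hθ0
  exact ⟨b - star b, b, ψ, hθ0, by rw [star_sub, star_star, neg_sub], rfl, hψ⟩

theorem pairing_injective (hF : Fintype.card F = q ^ 2) (hstar : ∀ x : F, star x = x ^ q) {θ : F}
    (hθ0 : θ ≠ 0) (hθ : star θ = -θ) {ψ : AddChar F ℂ} (hψ : ψ θ ≠ 1) :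
    Function.Injective fun K : {K : Matrix (Fin l) (Fin l) F // Kᴴ = K} => pairing ψ K.1 := by
  classical
  have hsurj : Function.Surjective
      (fun K : {K : Matrix (Fin l) (Fin l) F // Kᴴ = K} => pairing ψ K.1) := fun φ => by
    obtain ⟨K, hK, h⟩ := pairing_exists hstar hF hθ0 hθ hψ φ
    exact ⟨⟨K, hK⟩, h⟩
  have hcard : Nat.card {K : Matrix (Fin l) (Fin l) F // Kᴴ = K} =
      Nat.card (AddChar (skewH F l) ℂ) := by
    rw [Nat.card_eq_fintype_card (α := AddChar _ ℂ), AddChar.card_eq, ← Nat.card_eq_fintype_card]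
    refine Nat.card_congr
      { toFun := fun K => ⟨θ • K.1, show (θ • K.1)ᴴ = -(θ • K.1) by
          rw [Matrix.conjTranspose_smul, K.2, hθ, neg_smul]⟩
        invFun := fun H => ⟨θ⁻¹ • H.1, by
          rw [Matrix.conjTranspose_smul, star_inv₀, hθ, inv_neg, show (H.1)ᴴ = -H.1 from H.2,
            smul_neg, neg_smul, neg_neg]⟩
        left_inv := fun K => Subtype.ext (inv_smul_smul₀ hθ0 K.1)
        right_inv := fun H => Subtype.ext (smul_inv_smul₀ hθ0 H.1) }
  exact ((Nat.bijective_iff_surjective_and_card _).mpr ⟨hsurj, hcard⟩).1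

theorem exists_eigen (hF : Fintype.card F = q ^ 2) (hn : 3 ≤ n) (hex : ¬(n = 3 ∧ q = 2))
    {k : ℕ} (ρ : Representation ℂ (Cfsg.SU n F q) (Fin k → ℂ)) (hirr : ρ.IsIrreducible)
    (hk : 2 ≤ k) {E D : Matrix (Fin n) (Fin l) F} (hfr : Frame n l E D) (hl : 0 < l) {θ : F}
    {ψ : AddChar F ℂ} (hθ0 : θ ≠ 0) (hθ : star θ = -θ) (hψ : ψ θ ≠ 1) :
    ∃ (K : Matrix (Fin l) (Fin l) F) (v : Fin k → ℂ), Kᴴ = K ∧ K ≠ 0 ∧ v ≠ 0 ∧
      ∀ H, ρ (radElem hstar E hfr.isoE H) v = pairing ψ K H • v := by
  classical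
  have hne : ∃ H, ρ (radElem hstar E hfr.isoE H) ≠ 1 := by
    by_contra! hall
    let i0 : Fin l := ⟨0, hl⟩
    let v : Fin n → F := fun m => E m i0
    have hv : herm v v = 0 := congrFun (congrFun hfr.isoE i0) i0
    have hv0 : v ≠ 0 := fun h => by
      have h1 := congrFun (congrFun hfr.dual i0) i0
      rw [Matrix.one_apply_eq, Matrix.mul_apply] at h1
      have h2 : ∀ m, E m i0 = 0 := fun m => congrFun h m
      simp [h2] at h1
    have htriv : ρ.ker = ⊤ := normal_eq_top (hstar := hstar) hF hn hex hv0 hv fun t ht => by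
      let H : skewH F l := ⟨Matrix.single i0 i0 t, by
        change (Matrix.single i0 i0 t)ᴴ = -Matrix.single i0 i0 t
        rw [Matrix.conjTranspose_single, ht, Matrix.single_neg]⟩
      have he : trans hstar v hv t ht = radElem hstar E hfr.isoE H := by
        apply Subtype.ext
        apply Subtype.ext
        change transMat v t = 1 + E * Matrix.single i0 i0 t * Eᴴ
        rw [transMat]
        congr 1
        ext a b
        rw [Matrix.mul_apply, Finset.sum_eq_single i0]
        · simp [Matrix.vecMulVec_apply, v]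
          ring
        · intro j _ hj
          simp [hj]
        · simp
      rw [MonoidHom.mem_ker, he, hall]
    have := degree_le_one_of_trivial ρ hirr (fun g => MonoidHom.mem_ker.mp (htriv ▸ Subgroup.mem_top g))
    omega
  obtain ⟨φ, v, hφ, hv0, hv⟩ := exists_char_eigenvector
    (fun H => ρ (radElem hstar E hfr.isoE H))
    (fun a b => by rw [radElem_add, map_mul]) hne (by rw [radElem_zero, map_one])
  obtain ⟨K, hK, rfl⟩ := pairing_exists hstar hF hθ0 hθ hψ φ
  refine ⟨K, v, hK, fun h => hφ ?_, hv0, hv⟩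
  subst h
  ext H
  simp [pairing_apply]

theorem min_degree_even (hF : Fintype.card F = q ^ 2) (hn : n = 2 * (l + 2)) {k : ℕ}
    (ρ : Representation ℂ (Cfsg.SU n F q) (Fin k → ℂ)) (hirr : ρ.IsIrreducible) (hk : 2 ≤ k)
    (hstar : ∀ x : F, star x = x ^ q) : (q ^ n - 1) / (q + 1) ≤ k := by
  classical
  obtain ⟨E, D, hfr⟩ := exists_frame (n := n) (l := l + 2) hF hstar (by omega)
  obtain ⟨θ, β, ψ, hθ0, hθ, -, hψ⟩ := exists_psi hF hstar
  obtain ⟨K, v, hK, hK0, hv0, hv⟩ :=
    exists_eigen hstar hF (by omega) (by omega) ρ hirr hk hfr (by omega) hθ0 hθ hψ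
  have h1 := orbit_bound hstar ρ hfr.isoE (realised_sl hstar hfr)
    (pairing_injective hF hstar hθ0 hθ hψ) hθ K hK (ι := Unit) (fun _ => v)
    (linearIndependent_unique_iff.mpr hv0) (fun _ => hv)
  rw [Fintype.card_unit, mul_one] at h1
  have h2 := boundSL hstar hF l K hK hK0
  rw [← hn] at h2
  calc (q ^ n - 1) / (q + 1)
      ≤ ((q + 1) * (congrOrbit {g | g.det = 1} K).card) / (q + 1) :=
        Nat.div_le_div_right (by omega)
    _ = (congrOrbit {g | g.det = 1} K).card := Nat.mul_div_cancel_left _ (by omega)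
    _ ≤ k := h1

/-- The element `1 + c u wᴴ − c̄ w uᴴ + t u uᴴ`. -/
def heisMat (u w : Matrix (Fin n) Unit F) (c t : F) : Matrix (Fin n) (Fin n) F :=
  1 + (c • (u * wᴴ) - star c • (w * uᴴ) + t • (u * uᴴ))

theorem heisMat_mul (u w : Matrix (Fin n) Unit F) (huu : uᴴ * u = 0) (huw : uᴴ * w = 0)
    (hww : wᴴ * w = 1) (c t d s : F) :
    heisMat u w c t * heisMat u w d s = heisMat u w (c + d) (t + s - c * star d) := by
  have hwu : wᴴ * u = 0 := by
    have := congrArg Matrix.conjTranspose huw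
    rwa [Matrix.conjTranspose_mul, Matrix.conjTranspose_conjTranspose, Matrix.conjTranspose_zero]
      at this
  have key : ∀ (a b : Matrix (Fin n) Unit F) (a' b' : Matrix (Fin n) Unit F),
      a * bᴴ * (a' * b'ᴴ) = a * (bᴴ * a') * b'ᴴ := fun a b a' b' => by
    simp only [Matrix.mul_assoc]
  simp only [heisMat, mul_add, add_mul, one_mul, mul_one, sub_mul, mul_sub, Matrix.smul_mul,
    Matrix.mul_smul, key, huu, huw, hwu, hww, Matrix.mul_zero, Matrix.zero_mul, smul_zero,
    Matrix.mul_one, star_add]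
  module

theorem heis_exists (hstar : ∀ x : F, star x = x ^ q) (u w : Matrix (Fin n) Unit F) (huu : uᴴ * u = 0) (huw : uᴴ * w = 0)
    (hww : wᴴ * w = 1) (c t : F) (ht : t + star t = -(c * star c)) :
    ∃ Y : Cfsg.SU n F q, Y.1.1 = heisMat u w c t := by
  have hwu : wᴴ * u = 0 := by
    have := congrArg Matrix.conjTranspose huw
    rwa [Matrix.conjTranspose_mul, Matrix.conjTranspose_conjTranspose, Matrix.conjTranspose_zero]
      at this
  refine ⟨mkSU hstar (heisMat u w c t) ?_ ?_, rfl⟩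
  · have h1 : (heisMat u w c t)ᴴ = heisMat u w (-c) (star t) := by
      simp [heisMat, Matrix.conjTranspose_mul, Matrix.conjTranspose_smul]
      module
    rw [h1, heisMat_mul u w huu huw hww, neg_add_cancel,
      show star t + t - -c * star c = 0 by linear_combination ht, heisMat]
    simp
  · let A : Matrix (Fin n) (Unit ⊕ Unit) F := Matrix.fromCols u w
    let B : Matrix (Unit ⊕ Unit) (Fin n) F :=
      Matrix.fromRows (c • wᴴ + t • uᴴ) (-star c • uᴴ)
    have hAB : A * B = c • (u * wᴴ) - star c • (w * uᴴ) + t • (u * uᴴ) := by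
      simp only [A, B, Matrix.fromCols_mul_fromRows, Matrix.mul_add, Matrix.mul_smul]
      module
    have hBA : B * A = Matrix.fromBlocks 0 (c • 1) 0 0 := by
      simp [A, B, Matrix.add_mul, huu, huw, hwu, hww]
      ext (i | i) (j | j) <;> simp
    rw [heisMat, ← hAB, Matrix.det_one_add_mul_comm, hBA, ← Matrix.fromBlocks_one,
      Matrix.fromBlocks_add]
    simp [Matrix.det_fromBlocks_zero₂₁]

theorem min_degree_odd (hF : Fintype.card F = q ^ 2) (hn : n = 2 * (l + 1) + 1)
    (hex : ¬(n = 3 ∧ q = 2)) {k : ℕ}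
    (ρ : Representation ℂ (Cfsg.SU n F q) (Fin k → ℂ)) (hirr : ρ.IsIrreducible) (hk : 2 ≤ k)
    (hstar : ∀ x : F, star x = x ^ q) : (q ^ n - q) / (q + 1) ≤ k := by
  classical
  obtain ⟨E, D, hfr⟩ := exists_frame (n := n) (l := l + 1) hF hstar (by omega)
  obtain ⟨w, hww, hEw, -⟩ := last_vec hfr hn
  obtain ⟨θ, β, ψ, hθ0, hθ, hθβ, hψ⟩ := exists_psi hF hstar
  obtain ⟨K, v, hK, hK0, hv0, hv⟩ :=
    exists_eigen hstar hF (by omega) hex ρ hirr hk hfr (by omega) hθ0 hθ hψ
  obtain ⟨ξ, hξ⟩ := exists_value hstar hF K hK hK0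
  set a := star ξ ⬝ᵥ (K *ᵥ ξ) with ha
  have hafix : star a = a := by
    rw [ha, ← star_dotProduct_star, star_star, Matrix.star_mulVec, hK, ← Matrix.dotProduct_mulVec]
  let x : Matrix (Fin (l + 1)) Unit F := Matrix.of fun r _ => ξ r
  let u : Matrix (Fin n) Unit F := E * x
  have huu : uᴴ * u = 0 := by
    simp only [u]
    rw [Matrix.conjTranspose_mul, Matrix.mul_assoc, ← Matrix.mul_assoc Eᴴ, hfr.isoE]
    simp
  have huw : uᴴ * w = 0 := by
    simp only [u]
    rw [Matrix.conjTranspose_mul, Matrix.mul_assoc, hEw, Matrix.mul_zero]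
  have hEu : Eᴴ * u = 0 := by
    simp only [u]
    rw [← Matrix.mul_assoc, hfr.isoE, Matrix.zero_mul]
  have htex : ∀ c : F, ∃ t : F, t + star t = -(c * star c) := fun c =>
    exists_trace hstar hF (by rw [star_neg, star_mul', star_star, mul_comm])
  choose tt htt using htex
  choose Y hY using fun c => heis_exists hstar u w huu huw hww c (tt c) (htt c)
  -- commuting with the radical
  have hcommX : ∀ c H, Y c * radElem hstar E hfr.isoE H = radElem hstar E hfr.isoE H * Y c := by
    intro c H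
    apply Subtype.ext
    apply Subtype.ext
    change (Y c).1.1 * (1 + E * H.1 * Eᴴ) = (1 + E * H.1 * Eᴴ) * (Y c).1.1
    have huE : uᴴ * E = 0 := by
      have := congrArg Matrix.conjTranspose hEu
      rwa [Matrix.conjTranspose_mul, Matrix.conjTranspose_conjTranspose, Matrix.conjTranspose_zero]
        at this
    have hwE : wᴴ * E = 0 := by
      have := congrArg Matrix.conjTranspose hEw
      rwa [Matrix.conjTranspose_mul, Matrix.conjTranspose_conjTranspose, Matrix.conjTranspose_zero]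
        at this
    have h1 : ∀ (p r : Matrix (Fin n) Unit F), rᴴ * E = 0 → p * rᴴ * (E * H.1 * Eᴴ) = 0 := by
      intro p r hr
      rw [Matrix.mul_assoc, ← Matrix.mul_assoc rᴴ, ← Matrix.mul_assoc rᴴ, hr]
      simp
    have h2 : ∀ (p r : Matrix (Fin n) Unit F), Eᴴ * p = 0 → E * H.1 * Eᴴ * (p * rᴴ) = 0 := by
      intro p r hr
      rw [Matrix.mul_assoc (E * H.1), ← Matrix.mul_assoc Eᴴ, hr]
      simp
    simp only [hY, heisMat, mul_add, add_mul, one_mul, mul_one, sub_mul, mul_sub, Matrix.smul_mul,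
      Matrix.mul_smul, h1 _ _ huE, h1 _ _ hwE, h2 _ _ hEu, h2 _ _ hEw, smul_zero, sub_zero,
      add_zero]
    abel
  have hskewmem : ∀ δ : F, star δ = -δ → δ • (x * xᴴ) ∈ skewH F (l + 1) := by
    intro δ hδ
    change (δ • (x * xᴴ))ᴴ = -(δ • (x * xᴴ))
    rw [Matrix.conjTranspose_smul, Matrix.conjTranspose_mul, Matrix.conjTranspose_conjTranspose,
      hδ, neg_smul]
  have hδs : ∀ c d : F, star (d * star c - c * star d) = -(d * star c - c * star d) := by
    intro c d
    rw [star_sub, star_mul', star_mul', star_star, star_star]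
    ring
  have hYY : ∀ c d, Y c * Y d =
      radElem hstar E hfr.isoE ⟨_, hskewmem _ (hδs c d)⟩ * (Y d * Y c) := by
    intro c d
    apply Subtype.ext
    apply Subtype.ext
    change (Y c).1.1 * (Y d).1.1 =
      (1 + E * ((d * star c - c * star d) • (x * xᴴ)) * Eᴴ) * ((Y d).1.1 * (Y c).1.1)
    have hXm : 1 + E * ((d * star c - c * star d) • (x * xᴴ)) * Eᴴ =
        heisMat u w 0 (d * star c - c * star d) := by
      simp [heisMat, u, Matrix.conjTranspose_mul, Matrix.mul_assoc]
    rw [hXm, hY, hY, heisMat_mul u w huu huw hww, heisMat_mul u w huu huw hww,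
      heisMat_mul u w huu huw hww]
    congr 1 <;> ring
  have hval : ∀ δ (hδ : δ • (x * xᴴ) ∈ skewH F (l + 1)),
      pairing ψ K ⟨δ • (x * xᴴ), hδ⟩ = ψ (δ * a) := by
    intro δ hδ
    rw [pairing_apply]
    congr 1
    rw [Matrix.mul_smul, Matrix.trace_smul, ← Matrix.mul_assoc, Matrix.trace_mul_comm, smul_eq_mul]
    congr 1
    simp [x, Matrix.trace, Matrix.mul_apply, ha, dotProduct, Matrix.mulVec]
  -- the fixed field
  let Φ := {c : F // star c = c}
  let W : Submodule ℂ (Fin k → ℂ) :=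
    ⨅ H, Module.End.eigenspace (ρ (radElem hstar E hfr.isoE H)) (pairing ψ K H)
  have hmemW : ∀ y, y ∈ W ↔ ∀ H, ρ (radElem hstar E hfr.isoE H) y = pairing ψ K H • y := by
    intro y
    simp only [W, Submodule.mem_iInf, Module.End.mem_eigenspace_iff]
  have hWinv : ∀ c, ∀ y ∈ W, ρ (Y c) y ∈ W := by
    intro c y hy
    rw [hmemW] at hy ⊢
    intro H
    rw [← Module.End.mul_apply, ← map_mul, ← hcommX, map_mul, Module.End.mul_apply, hy, map_smul]
  have hcommY : ∀ (c d : Φ) y, ρ (Y c.1) (ρ (Y d.1) y) = ρ (Y d.1) (ρ (Y c.1) y) := by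
    intro c d y
    have h1 : Y c.1 * Y d.1 = Y d.1 * Y c.1 := by
      have e : (⟨_, hskewmem _ (hδs c.1 d.1)⟩ : skewH F (l + 1)) = 0 := by
        apply Subtype.ext
        change (d.1 * star c.1 - c.1 * star d.1) • (x * xᴴ) = 0
        rw [c.2, d.2, mul_comm, sub_self, zero_smul]
      rw [hYY, e, radElem_zero, one_mul]
    rw [← Module.End.mul_apply, ← map_mul, h1, map_mul, Module.End.mul_apply]
  have : Fintype Φ := Fintype.ofFinite _
  obtain ⟨v1, hv1W, hv10, lam, hlam⟩ := exists_common_eigenvector (fun c : Φ => ρ (Y c.1)) hcommY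
    Finset.univ W (fun h => hv0 ((Submodule.eq_bot_iff W).mp h v ((hmemW v).mpr hv)))
    (fun c => hWinv c.1)
  have hmove : ∀ (c d : Φ), ρ (Y c.1) (ρ (Y (β * d.1)) v1) =
      (ψ (c.1 * d.1 * θ * a) * lam c) • ρ (Y (β * d.1)) v1 := by
    intro c d
    rw [← Module.End.mul_apply, ← map_mul, hYY, map_mul, map_mul, Module.End.mul_apply,
      Module.End.mul_apply, hlam c (Finset.mem_univ c), map_smul, map_smul,
      (hmemW _).mp (hWinv _ _ hv1W), hval, smul_smul, mul_comm (lam c)]
    congr 3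
    rw [c.2, star_mul', d.2, hθβ]
    ring
  have hli : LinearIndependent ℂ fun d : Φ => ρ (Y (β * d.1)) v1 := by
    rw [Fintype.linearIndependent_iff]
    intro g hg
    have hz := eigen_sum_zero (fun c : Φ => ρ (Y c.1)) Finset.univ
      (fun d : Φ => g d • ρ (Y (β * d.1)) v1) (fun d c => ψ (c.1 * d.1 * θ * a) * lam c)
      (fun d _ c => by rw [map_smul, hmove, smul_comm]) ?_ hg
    · intro d
      rcases smul_eq_zero.mp (hz d (Finset.mem_univ d)) with h | h
      · exact h
      · exfalso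
        apply hv10
        have h1 := congrArg (ρ (Y (β * d.1))⁻¹) h
        have h3 := rho_inv_apply ρ (Y (β * d.1))⁻¹ v1
        rw [inv_inv] at h3
        rw [h3, map_zero] at h1
        exact h1
    · intro d _ d' _ h
      by_contra hne
      have hD : d.1 - d'.1 ≠ 0 := sub_ne_zero.mpr fun e => hne (Subtype.ext e)
      let c : Φ := ⟨((d.1 - d'.1) * a)⁻¹, by rw [star_inv₀, star_mul', star_sub, d.2, d'.2, hafix]⟩
      have h1 := congrFun h c
      have hl : lam c ≠ 0 := by
        intro hl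
        have h2 := hlam c (Finset.mem_univ c)
        rw [hl, zero_smul] at h2
        apply hv10
        have h3 := congrArg (ρ (Y c.1)⁻¹) h2
        have h4 := rho_inv_apply ρ (Y c.1)⁻¹ v1
        rw [inv_inv] at h4
        rw [h4, map_zero] at h3
        exact h3
      have h2 : ψ (c.1 * d.1 * θ * a) = ψ (c.1 * d'.1 * θ * a) := mul_right_cancel₀ hl h1
      apply hψ
      have h3 : θ = c.1 * d.1 * θ * a - c.1 * d'.1 * θ * a := by
        simp only [c]
        field_simp
      rw [h3, AddChar.map_sub_eq_div, h2, div_self]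
      exact (ψ.val_isUnit _).ne_zero
  have hq2 := Hermitian.q_two_le hF
  have hcardΦ : q ≤ Fintype.card Φ := by
    have h1 := card_fixed_units_ge hstar hF
    have h2 : (Finset.univ.filter fun a : F => a ≠ 0 ∧ star a = a).card + 1 ≤ Fintype.card Φ := by
      rw [Fintype.card_subtype, ← Finset.card_insert_of_notMem (a := (0 : F)) (by simp)]
      refine Finset.card_le_card fun y hy => ?_
      rcases Finset.mem_insert.mp hy with rfl | hy
      · simp
      · simp only [Finset.mem_filter, Finset.mem_univ, true_and] at hy ⊢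
        exact hy.2
    omega
  have h1 := orbit_bound hstar ρ hfr.isoE (realised_gl hstar hfr hn)
    (pairing_injective hF hstar hθ0 hθ hψ) hθ K hK (ι := Φ) _ hli
    (fun d => (hmemW _).mp (hWinv _ _ hv1W))
  have h2 := boundGL hstar hF l K hK hK0
  have h4 : q ^ n - q ≤ (q + 1) * ((congrOrbit {g | g.det ≠ 0} K).card * q) := by
    rw [hn, pow_succ]
    have := Nat.mul_le_mul_right q h2
    rw [Nat.add_mul, Nat.one_mul, Nat.mul_assoc] at this
    omega
  calc (q ^ n - q) / (q + 1)
      ≤ ((q + 1) * ((congrOrbit {g | g.det ≠ 0} K).card * q)) / (q + 1) :=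
        Nat.div_le_div_right h4
    _ = (congrOrbit {g | g.det ≠ 0} K).card * q := Nat.mul_div_cancel_left _ (by omega)
    _ ≤ k := le_trans (Nat.mul_le_mul_left _ hcardΦ) h1

end Cfsg.Agent.Small.Unitary
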