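import Mathlib
import Cfsg.Agent.Lib.Small.Unitary.MinDegree

/-!
`PSU_n(q)` is simple for `n ≥ 3`, `(n, q) ≠ (3, 2)`: perfectness, maximality of the stabiliser of
an isotropic line, and the Iwasawa argument.
-/

set_option autoImplicit false
set_option linter.unusedSectionVars false

namespace Cfsg.Agent.Small.Unitary

open Matrix
open scoped commutatorElement

variable {F : Type*} [Field F] [Fintype F] [StarRing F] {n q : ℕ}

theorem transMat_smul_vec (v : Fin n → F) (c t : F) :
    transMat (c • v) t = transMat v (star c * c * t) := by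
  ext a b
  simp [transMat, Matrix.vecMulVec_apply]
  ring

theorem conj_trans_scale (hstar : ∀ x : F, star x = x ^ q) (g : Cfsg.SU n F q) (v : Fin n → F)
    (hv : herm v v = 0) {c : F} (hg : act g v = c • v) (t : F) (ht : star t = -t) :
    g * trans hstar v hv t ht * g⁻¹ = trans hstar v hv (star c * c * t)
      (by rw [star_mul', star_mul', star_star, ht]; ring) := by
  rw [conj_trans]
  apply Subtype.ext
  apply Subtype.ext
  change transMat (act g v) t = transMat v (star c * c * t)
  rw [hg, transMat_smul_vec]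

theorem trans_add (hstar : ∀ x : F, star x = x ^ q) (v : Fin n → F) (hv : herm v v = 0) (s t : F)
    (hs : star s = -s) (ht : star t = -t) :
    trans hstar v hv (s + t) (by rw [star_add, hs, ht, neg_add]) =
      trans hstar v hv s hs * trans hstar v hv t ht := by
  apply Subtype.ext
  apply Subtype.ext
  exact (transMat_mul v hv s t).symm

/-- `SU_n(q)` is perfect. -/
theorem commutator_eq_top (hstar : ∀ x : F, star x = x ^ q) (hF : Fintype.card F = q ^ 2)
    (hn : 3 ≤ n) (hex : ¬(n = 3 ∧ q = 2)) : commutator (Cfsg.SU n F q) = ⊤ := by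
  classical
  have hq := Hermitian.q_two_le hF
  suffices h : ∃ (v : Fin n → F) (_ : v ≠ 0) (hv : herm v v = 0),
      ∀ (t : F) (ht : star t = -t), trans hstar v hv t ht ∈ commutator (Cfsg.SU n F q) by
    obtain ⟨v, hv0, hv, h⟩ := h
    exact normal_eq_top (hstar := hstar) hF hn hex hv0 hv h
  by_cases h4 : 4 ≤ n
  · obtain ⟨E, D, hfr⟩ := exists_frame (n := n) (l := 2) hF hstar (by omega)
    let v : Fin n → F := fun m => E m 1
    have hv : herm v v = 0 := congrFun (congrFun hfr.isoE 1) 1
    have hv0 : v ≠ 0 := fun h => by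
      have h1 := congrFun (congrFun hfr.dual 1) 1
      rw [Matrix.one_apply_eq, Matrix.mul_apply] at h1
      have h2 : ∀ m, E m 1 = 0 := fun m => congrFun h m
      simp [h2] at h1
    refine ⟨v, hv0, hv, fun t ht => ?_⟩
    obtain ⟨c₀, hc₀⟩ := exists_trace hstar hF (r := (1 : F)) (by simp)
    have hmem : ∀ g : Matrix (Fin 2) (Fin 2) F, g.det = 1 → ∀ H : skewH F 2,
        radElem hstar E hfr.isoE (⟨g * H.1 * gᴴ, congr_skew g H⟩ - H) ∈
          commutator (Cfsg.SU n F q) := by
      intro g hg H
      obtain ⟨u, hu⟩ := realised_sl hstar hfr g hg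
      have h1 : radElem hstar E hfr.isoE (⟨g * H.1 * gᴴ, congr_skew g H⟩ - H) =
          ⁅u, radElem hstar E hfr.isoE H⁆ := by
        rw [commutatorElement_def, conj_radElem hstar E hfr.isoE u g hu H, eq_mul_inv_iff_mul_eq,
          ← radElem_add, sub_add_cancel]
      rw [h1]
      exact Subgroup.commutator_mem_commutator (Subgroup.mem_top u) (Subgroup.mem_top _)
    let H : skewH F 2 := ⟨Matrix.single 0 0 (-t), by
      change (Matrix.single (0 : Fin 2) 0 (-t))ᴴ = -Matrix.single (0 : Fin 2) 0 (-t)
      rw [Matrix.conjTranspose_single, star_neg, ht, ← Matrix.single_neg]⟩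
    let g : F → Matrix (Fin 2) (Fin 2) F := fun c => !![1, 0; c, 1]
    have hg : ∀ c, (g c).det = 1 := fun c => by simp [g, Matrix.det_fin_two]
    have hfinal : trans hstar v hv t ht =
        radElem hstar E hfr.isoE (⟨g c₀ * H.1 * (g c₀)ᴴ, congr_skew _ H⟩ - H) *
        radElem hstar E hfr.isoE (⟨g 1 * H.1 * (g 1)ᴴ, congr_skew _ H⟩ - H) *
        (radElem hstar E hfr.isoE (⟨g (c₀ + 1) * H.1 * (g (c₀ + 1))ᴴ, congr_skew _ H⟩ - H))⁻¹ := by
      rw [← radElem_add, eq_mul_inv_iff_mul_eq]
      have e1 : trans hstar v hv t ht = radElem hstar E hfr.isoE ⟨Matrix.single 1 1 t, by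
          change (Matrix.single (1 : Fin 2) 1 t)ᴴ = -Matrix.single (1 : Fin 2) 1 t
          rw [Matrix.conjTranspose_single, ht, Matrix.single_neg]⟩ := by
        apply Subtype.ext
        apply Subtype.ext
        change transMat v t = 1 + E * Matrix.single 1 1 t * Eᴴ
        rw [transMat]
        congr 1
        ext a b
        rw [Matrix.mul_apply, Fin.sum_univ_two]
        simp [Matrix.vecMulVec_apply, v]
        ring
      rw [e1, ← radElem_add]
      congr 1
      apply Subtype.ext
      change Matrix.single (1 : Fin 2) 1 t +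
          (g (c₀ + 1) * H.1 * (g (c₀ + 1))ᴴ - H.1) =
        (g c₀ * H.1 * (g c₀)ᴴ - H.1) + (g 1 * H.1 * (g 1)ᴴ - H.1)
      have hc : ∀ c : F, g c * H.1 * (g c)ᴴ - H.1 = !![0, -t * star c; -t * c, -t * (c * star c)] := by
        intro c
        ext a b
        simp only [H, g, Matrix.sub_apply, Matrix.mul_apply, Fin.sum_univ_two,
          Matrix.conjTranspose_apply, Matrix.single_apply]
        fin_cases a <;> fin_cases b <;> simp <;> ring
      rw [hc, hc, hc]
      ext a b
      fin_cases a <;> fin_cases b <;> simp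
      all_goals first
        | ring1
        | linear_combination (-t) * hc₀
    rw [hfinal]
    exact mul_mem (mul_mem (hmem _ (hg _) H) (hmem _ (hg _) H)) (inv_mem (hmem _ (hg _) H))
  · have hn3 : n = 3 := by omega
    have hq3 : q ≠ 2 := fun h => hex ⟨hn3, h⟩
    have htop : HasTrans hstar (⊤ : Subgroup (Cfsg.SU n F q)) := fun _ _ _ _ => trivial
    let i0 : Fin n := ⟨0, by omega⟩
    let j0 : Fin n := ⟨1, by omega⟩
    let k0 : Fin n := ⟨2, by omega⟩
    obtain ⟨e, f, P⟩ := exists_pair hstar hF (i := i0) (j := j0) (by simp [i0, j0, Fin.ext_iff])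
    have hk : k0 ∈ (Finset.univ : Finset (Fin n)) \ {i0, j0} := by
      simp [i0, j0, k0, Fin.ext_iff]
    have he0 : e ≠ 0 := fun h => by
      have := P.ef
      rw [h, herm_zero_left] at this
      exact zero_ne_one this
    refine ⟨e, he0, P.ee, fun t ht => ?_⟩
    obtain ⟨lam, hlam0, hlam⟩ : ∃ lam : F, lam ≠ 0 ∧ star lam * lam - 1 ≠ 0 := by
      obtain ⟨g, hg⟩ := IsCyclic.exists_ofOrder_eq_natCard (α := Fˣ)
      rw [Nat.card_units, Nat.card_eq_fintype_card, hF] at hg
      refine ⟨(g : F), g.ne_zero, fun h => ?_⟩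
      rw [sub_eq_zero, hstar, ← pow_succ, ← Units.val_pow_eq_pow_val] at h
      have h1 : g ^ (q + 1) = 1 := Units.ext h
      rw [← orderOf_dvd_iff_pow_eq_one, hg] at h1
      have h2 := Nat.le_of_dvd (by omega) h1
      have h3 : 3 * q ≤ q ^ 2 := by rw [pow_two]; exact Nat.mul_le_mul_right q (by omega)
      omega
    obtain ⟨g, -, -, hg⟩ :=
      moves_scalar hF htop P (Finset.mem_univ _) (Finset.mem_univ _) hk hlam0
    set N := star lam * lam with hN
    have hNs : star N = N := by rw [hN, star_mul', star_star, mul_comm]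
    have hs : star (t / (N - 1)) = -(t / (N - 1)) := by
      rw [star_div₀, star_sub, hNs, star_one, ht, neg_div]
    have h1 : trans hstar e P.ee t ht = ⁅g, trans hstar e P.ee _ hs⁆ := by
      rw [commutatorElement_def, conj_trans_scale hstar g e P.ee hg, eq_mul_inv_iff_mul_eq,
        ← trans_add]
      apply Subtype.ext
      apply Subtype.ext
      change transMat e (t + t / (N - 1)) = transMat e (N * (t / (N - 1)))
      congr 1
      field_simp
      ring
    rw [h1]
    exact Subgroup.commutator_mem_commutator (Subgroup.mem_top g) (Subgroup.mem_top _)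

/-- The stabiliser of a line. -/
def lineFix (q : ℕ) {e : Fin n → F} (he : e ≠ 0) : Subgroup (Cfsg.SU n F q) where
  carrier := {g | ∃ c : F, act g e = c • e}
  one_mem' := ⟨1, by rw [act_one, one_smul]⟩
  mul_mem' := by
    rintro a b ⟨c, hc⟩ ⟨d, hd⟩
    exact ⟨d * c, by rw [act_mul, hd, act_smul, hc, smul_smul]⟩
  inv_mem' := by
    rintro a ⟨c, hc⟩
    have hc0 : c ≠ 0 := fun h => he (act_injective a (by
      rw [hc, h, zero_smul]; exact (Matrix.mulVec_zero _).symm))
    refine ⟨c⁻¹, ?_⟩
    apply act_injective a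
    rw [act_act_inv, act_smul, hc, smul_smul, inv_mul_cancel₀ hc0, one_smul]

theorem lineFix_maximal (hstar : ∀ x : F, star x = x ^ q) (hF : Fintype.card F = q ^ 2) (hex : ¬(n = 3 ∧ q = 2)) {i j : Fin n}
    {e f : Fin n → F} (P : Pair i j e f) (he : e ≠ 0) {k : Fin n}
    (hk : k ∈ (Finset.univ : Finset (Fin n)) \ {i, j}) {M : Subgroup (Cfsg.SU n F q)}
    (hM : lineFix q he ≤ M) {g : Cfsg.SU n F q} (hgM : g ∈ M) (hg : g ∉ lineFix q he) :
    M = ⊤ := by
  classical
  have htop : HasTrans hstar (⊤ : Subgroup (Cfsg.SU n F q)) := fun _ _ _ _ => trivial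
  have hsu : ∀ w : Fin n → F, Supp Finset.univ w := fun w m hm => absurd (Finset.mem_univ m) hm
  have hEich : ∀ z, Supp (Finset.univ \ {i, j}) z →
      Eich (⊤ : Subgroup (Cfsg.SU n F q)) Finset.univ e f z := by
    intro z hz
    by_cases h4 : 4 ≤ n
    · refine eich_all hF htop P (Finset.mem_univ i) (Finset.mem_univ j) ?_ hz
      rw [Finset.card_sdiff_of_subset (Finset.subset_univ _), Finset.card_univ, Fintype.card_fin,
        Finset.card_pair P.ne]
      omega
    · have hn3 : n = 3 := by
        have h1 := (Finset.mem_sdiff.mp hk).2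
        simp only [Finset.mem_insert, Finset.mem_singleton, not_or, Fin.ext_iff] at h1
        have := P.ne
        rw [ne_eq, Fin.ext_iff] at this
        have := i.2; have := j.2; have := k.2
        omega
      exact eich_three hn3 hF (fun h => hex ⟨hn3, h⟩) htop P hz
  let O : (Fin n → F) → Prop := fun u => ∃ m ∈ M, ∃ c : F, c ≠ 0 ∧ act m e = c • u
  have hO_act : ∀ u p, p ∈ M → O u → O (act p u) := by
    rintro u p hp ⟨m, hm, c, hc, hmu⟩
    exact ⟨p * m, mul_mem hp hm, c, hc, by rw [act_mul, hmu, act_smul]⟩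
  have hO_smul : ∀ u (d : F), d ≠ 0 → O u → O (d • u) := by
    rintro u d hd ⟨m, hm, c, hc, hmu⟩
    exact ⟨m, hm, c / d, div_ne_zero hc hd, by rw [smul_smul, div_mul_cancel₀ _ hd, hmu]⟩
  have hOe : O e := ⟨1, one_mem M, 1, one_ne_zero, by rw [act_one, one_smul]⟩
  -- transitivity of the stabiliser on points not orthogonal to `e`
  have htrans : ∀ u, herm u u = 0 → herm e u ≠ 0 →
      ∃ p ∈ lineFix q he, ∃ c : F, c ≠ 0 ∧ act p f = c • u := by
    intro u hu hc
    set v := (herm e u)⁻¹ • u with hvdef
    have hev : herm e v = 1 := by rw [hvdef, herm_smul_right, inv_mul_cancel₀ hc]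
    have hvv : herm v v = 0 := by simp [hvdef, herm_smul_left, herm_smul_right, hu]
    have hsz := P.decompose (Finset.mem_univ i) (Finset.mem_univ j) (hsu v)
    set z := v - herm f v • e - herm e v • f with hz
    obtain ⟨x, -, -, hxe, -, a, hxf⟩ := hEich z hsz
    set γ := herm f v with hγ
    have hveq : v = γ • e + f + z := by rw [hz, hev, one_smul]; abel
    have hskew : star (γ - a) = -(γ - a) := by
      have h1 : herm (act x f) (act x f) = 0 := by rw [herm_act hstar]; exact P.ff
      obtain ⟨hez, hfz⟩ := P.perp hsz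
      have hze : herm z e = 0 := by rw [← star_herm, hez, star_zero]
      have hzf : herm z f = 0 := by rw [← star_herm, hfz, star_zero]
      have h2 := hvv
      rw [hveq] at h2
      rw [hxf] at h1
      simp [herm_add_left, herm_add_right, herm_smul_left, herm_smul_right, P.ee, P.ff, P.ef, P.fe,
        hez, hfz, hze, hzf] at h1 h2
      rw [star_sub]
      linear_combination h2 - h1
    refine ⟨trans hstar e P.ee _ hskew * x, ⟨1, ?_⟩, (herm e u)⁻¹, inv_ne_zero hc, ?_⟩
    · rw [act_mul, hxe, act_trans, P.ee]; simp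
    · rw [act_mul, hxf, act_trans, herm_add_right, herm_add_right, herm_smul_right, P.ee, P.ef,
        (P.perp hsz).1, ← hvdef, hveq]
      module
  -- a point of the orbit not orthogonal to `e`
  obtain ⟨w, hww, hew, hOw⟩ : ∃ w, herm w w = 0 ∧ herm e w ≠ 0 ∧ O w := by
    set u := act g e with hu
    have huu : herm u u = 0 := by rw [hu, herm_act hstar]; exact P.ee
    have hOu : O u := hO_act e g hgM hOe
    by_cases heu : herm e u = 0
    swap
    · exact ⟨u, huu, heu, hOu⟩
    have hsz := P.decompose (Finset.mem_univ i) (Finset.mem_univ j) (hsu u)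
    set z0 := u - herm f u • e - herm e u • f with hz0
    obtain ⟨hez, hfz⟩ := P.perp hsz
    have hze : herm z0 e = 0 := by rw [← star_herm, hez, star_zero]
    have hueq : u = herm f u • e + z0 := by rw [hz0, heu, zero_smul]; abel
    have hz00 : z0 ≠ 0 := fun h => hg ⟨herm f u, by rw [← hu]; conv_lhs => rw [hueq, h, add_zero]⟩
    have hzz : herm z0 z0 = 0 := by
      have h2 := huu
      rw [hueq] at h2
      simpa [herm_add_left, herm_add_right, herm_smul_left, herm_smul_right, P.ee, hez, hze]
        using h2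
    obtain ⟨k1, hk1⟩ : ∃ k1, z0 k1 ≠ 0 := Function.ne_iff.mp hz00
    have hk1W : k1 ∈ (Finset.univ : Finset (Fin n)) \ {i, j} := by
      by_contra h; exact hk1 (hsz k1 h)
    obtain ⟨m, hm, hmk⟩ : ∃ m ∈ (Finset.univ : Finset (Fin n)) \ {i, j}, m ≠ k1 := by
      by_contra! h
      apply hk1
      have h1 : z0 = Pi.single k1 (z0 k1) := by
        funext x
        by_cases hx : x = k1
        · rw [hx, Pi.single_eq_same]
        · rw [Pi.single_eq_of_ne hx]
          exact hsz x fun hxW => hx (h x hxW)
      rw [h1, herm_single_left, Pi.single_eq_same] at hzz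
      rcases mul_eq_zero.mp hzz with h2 | h2
      · exact star_eq_zero.mp h2
      · exact h2
    obtain ⟨a, ha⟩ := exists_neg_norm hstar hF (r := (-1 : F)) (by simp)
    obtain ⟨ζ, hζ1, hζ⟩ := exists_norm_one_ne hstar hF
    obtain ⟨y, hy, hy2⟩ : ∃ y : F, star y * y = -1 ∧ z0 k1 + star y * z0 m ≠ 0 := by
      by_contra! h
      have h1 := h a ha
      have h2 := h (ζ * a) (by rw [star_mul', mul_mul_mul_comm, hζ, ha, one_mul])
      have h3 : (star (ζ * a) - star a) * z0 m = 0 := by linear_combination h2 - h1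
      rcases mul_eq_zero.mp h3 with h4 | h4
      · have ha0 : a ≠ 0 := fun h => by simp [h] at ha
        exact hζ1 (mul_right_cancel₀ ha0 (by
          rw [one_mul]; exact star_injective (sub_eq_zero.mp h4)))
      · rw [h4, mul_zero, add_zero] at h1
        exact hk1 h1
    let z : Fin n → F := Pi.single k1 1 + Pi.single m y
    have hzs : Supp (Finset.univ \ {i, j}) z := (Supp.single hk1W 1).add (Supp.single hm y)
    have hzzz : herm z z = 0 := by
      simp [z, herm_add_left, herm_add_right, herm_single_left, hmk, hmk.symm, hy]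
    obtain ⟨θ, hθ0, hθ⟩ := exists_skew hstar hF
    set T := trans hstar z hzzz θ hθ with hT
    have hzeq : herm z u = z0 k1 + star y * z0 m := by
      have he1 : herm z e = 0 := by rw [← star_herm, (P.perp hzs).1, star_zero]
      rw [hueq, herm_add_right, herm_smul_right, he1, mul_zero, zero_add]
      simp [z, herm_add_left, herm_single_left]
    have hTe : T ∈ lineFix q he := ⟨1, by
      rw [hT, act_trans, ← star_herm, (P.perp hzs).1, star_zero, mul_zero, zero_smul, add_zero,
        one_smul]⟩
    set w' := act T u with hw'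
    have huw' : herm u w' ≠ 0 := by
      rw [hw', hT, act_trans, herm_add_right, huu, herm_smul_right, zero_add, ← star_herm z u,
        hzeq]
      exact mul_ne_zero (mul_ne_zero hθ0 hy2) (star_ne_zero.mpr hy2)
    refine ⟨act g⁻¹ w', ?_, ?_, ?_⟩
    · rw [herm_act hstar, hw', herm_act hstar, huu]
    · rw [← herm_act hstar g, act_act_inv, ← hu]
      exact huw'
    · exact hO_act _ _ (inv_mem hgM) (hO_act _ _ (hM hTe) hOu)
  -- hence all points not orthogonal to `e`
  have hnon : ∀ u, herm u u = 0 → herm e u ≠ 0 → O u := by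
    intro u hu hc
    obtain ⟨p, hp, c, hc0, hpw⟩ := htrans w hww hew
    have hOf : O f := by
      have h1 := hO_act _ p⁻¹ (inv_mem (hM hp)) (hO_smul w c hc0 hOw)
      rwa [← hpw, act_inv_act] at h1
    obtain ⟨p', hp', c', hc', hp'u⟩ := htrans u hu hc
    have h2 := hO_smul _ c'⁻¹ (inv_ne_zero hc') (hO_act f p' (hM hp') hOf)
    rwa [hp'u, smul_smul, inv_mul_cancel₀ hc', one_smul] at h2
  have hall : ∀ u, u ≠ 0 → herm u u = 0 → O u := by
    intro u hu0 hu
    by_cases heu : herm e u = 0
    swap
    · exact hnon u hu heu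
    obtain ⟨w1, hw1, hew1, huw1⟩ : ∃ w1, herm w1 w1 = 0 ∧ herm e w1 ≠ 0 ∧ herm w1 u ≠ 0 := by
      by_cases hfu : herm f u = 0
      swap
      · exact ⟨f, P.ff, by rw [P.ef]; exact one_ne_zero, hfu⟩
      have hsz := P.decompose (Finset.mem_univ i) (Finset.mem_univ j) (hsu u)
      rw [heu, hfu, zero_smul, zero_smul, sub_zero, sub_zero] at hsz
      obtain ⟨m, hm⟩ : ∃ m, u m ≠ 0 := Function.ne_iff.mp hu0
      have hmW : m ∈ (Finset.univ : Finset (Fin n)) \ {i, j} := by
        by_contra h; exact hm (hsz m h)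
      obtain ⟨a, ha⟩ := exists_trace hstar hF (r := (-1 : F)) (by simp)
      obtain ⟨hek, hfk⟩ := P.perp (Supp.single (F := F) hmW 1)
      have hke : herm (Pi.single m 1 : Fin n → F) e = 0 := by rw [← star_herm, hek, star_zero]
      have hkf : herm (Pi.single m 1 : Fin n → F) f = 0 := by rw [← star_herm, hfk, star_zero]
      have hkk : herm (Pi.single m 1 : Fin n → F) (Pi.single m 1) = 1 := by
        rw [herm_single_left, Pi.single_eq_same, star_one, one_mul]
      refine ⟨a • e + f + Pi.single m 1, ?_, ?_, ?_⟩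
      · simp only [herm_add_left, herm_add_right, herm_smul_left, herm_smul_right, P.ee, P.ff,
          P.ef, P.fe, hek, hfk, hke, hkf, hkk]
        linear_combination ha
      · simp [herm_add_right, herm_smul_right, P.ee, P.ef, hek]
      · simpa [herm_add_left, herm_smul_left, heu, hfu, herm_single_left] using hm
    obtain ⟨m, hm, c, hc, hmw⟩ := hnon w1 hw1 hew1
    have h1 : O (act m⁻¹ u) := hnon _ (by rw [herm_act hstar]; exact hu) (by
      rw [← herm_act hstar m, act_act_inv, hmw, herm_smul_left]
      exact mul_ne_zero (star_ne_zero.mpr hc) huw1)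
    have h2 := hO_act _ m hm h1
    rwa [act_act_inv] at h2
  refine eq_top_iff.mpr fun x _ => ?_
  obtain ⟨m, hm, c, hc, hmx⟩ := hall (act x e)
    (fun h => he (act_injective x (h.trans (Matrix.mulVec_zero _).symm)))
    (by rw [herm_act hstar]; exact P.ee)
  have h1 : m⁻¹ * x ∈ lineFix q he := ⟨c⁻¹, by
    rw [act_mul]
    apply act_injective m
    rw [act_act_inv, act_smul, hmx, smul_smul, inv_mul_cancel₀ hc, one_smul]⟩
  have h2 := mul_mem hm (hM h1)
  rwa [mul_inv_cancel_left] at h2

/-- An element fixing every isotropic line is central. -/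
theorem mem_center_of_fixes_lines (hstar : ∀ x : F, star x = x ^ q) (hF : Fintype.card F = q ^ 2)
    (hn : 3 ≤ n) {g : Cfsg.SU n F q}
    (hg : ∀ v : Fin n → F, v ≠ 0 → herm v v = 0 → ∃ c : F, act g v = c • v) :
    g ∈ Subgroup.center (Cfsg.SU n F q) := by
  classical
  have third : ∀ a b : Fin n, ∃ c, c ≠ a ∧ c ≠ b := by
    intro a b
    by_contra! h
    have hsub : (Finset.univ : Finset (Fin n)) ⊆ {a, b} := by
      intro c _
      simp only [Finset.mem_insert, Finset.mem_singleton]
      exact (eq_or_ne c a).imp id (h c)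
    have := (Finset.card_le_card hsub).trans Finset.card_le_two
    rw [Finset.card_univ, Fintype.card_fin] at this
    omega
  have hdiag : ∀ i : Fin n, act g (Pi.single i 1) = Pi.single i (act g (Pi.single i 1) i) := by
    intro i
    funext k
    by_cases hki : k = i
    · rw [hki, Pi.single_eq_same]
    rw [Pi.single_eq_of_ne hki]
    obtain ⟨j, hji, hjk⟩ := third i k
    obtain ⟨e, f, P⟩ := exists_pair hstar hF (Ne.symm hji)
    have h1 := P.decompose (I := {i, j}) (by simp) (by simp) (Supp.single (show i ∈ ({i, j} : Finset (Fin n)) by simp) (1 : F))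
    set v : Fin n → F := Pi.single i 1 with hv
    have h2 : v - herm f v • e - herm e v • f = 0 := funext fun m => h1 m (by simp)
    rw [sub_sub, sub_eq_zero] at h2
    have he0 : e ≠ 0 := fun h => by
      have := P.ef; rw [h, herm_zero_left] at this; exact zero_ne_one this
    have hf0 : f ≠ 0 := fun h => by
      have := P.ef; rw [h, herm_zero_right] at this; exact zero_ne_one this
    obtain ⟨ce, hce⟩ := hg e he0 P.ee
    obtain ⟨cf, hcf⟩ := hg f hf0 P.ff
    have hkn : k ∉ ({i, j} : Finset (Fin n)) := by simp [hki, Ne.symm hjk]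
    rw [h2, act_add, act_smul, act_smul, hce, hcf]
    simp [P.supp_e k hkn, P.supp_f k hkn]
  have heq : ∀ i j : Fin n, act g (Pi.single i 1) i = act g (Pi.single j 1) j := by
    intro i j
    by_cases hij : i = j
    · rw [hij]
    obtain ⟨a, ha⟩ := exists_neg_norm hstar hF (r := (-1 : F)) (by simp)
    have ha0 : a ≠ 0 := fun h => by simp [h] at ha
    let v : Fin n → F := Pi.single i 1 + a • Pi.single j 1
    have hv : herm v v = 0 := by
      simp [v, herm_add_left, herm_add_right, herm_smul_left, herm_smul_right, herm_single_left,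
        hij, Ne.symm hij]
      linear_combination ha
    have hv0 : v ≠ 0 := fun h => by
      have := congrFun h i
      simp [v, hij] at this
    obtain ⟨c, hc⟩ := hg v hv0 hv
    simp only [v] at hc
    rw [act_add, act_smul, hdiag i, hdiag j] at hc
    have h1 := congrFun hc i
    have h2 := congrFun hc j
    simp [hij, Ne.symm hij] at h1 h2
    rw [h1]
    exact (mul_left_cancel₀ ha0 (by linear_combination h2)).symm
  have hn0 : 0 < n := by omega
  have hmat : g.1.1 = (act g (Pi.single ⟨0, hn0⟩ 1) ⟨0, hn0⟩) • (1 : Matrix (Fin n) (Fin n) F) := by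
    ext a b
    have h1 := congrFun (hdiag b) a
    rw [act, Matrix.mulVec_single_one] at h1
    rw [Matrix.smul_apply, Matrix.one_apply, ← Matrix.col_apply g.1.1 b a, h1, Pi.single_apply,
      smul_eq_mul]
    split_ifs with h
    · rw [mul_one, heq ⟨0, hn0⟩ b]; simp [act]
    · rw [mul_zero]
  refine Subgroup.mem_center_iff.mpr fun x => ?_
  apply Subtype.ext
  apply Subtype.ext
  change x.1.1 * g.1.1 = g.1.1 * x.1.1
  rw [hmat]
  simp

/-- `PSU_n(q)` is simple. -/
theorem psu_simple (hstar : ∀ x : F, star x = x ^ q) (hF : Fintype.card F = q ^ 2) (hn : 3 ≤ n)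
    (hex : ¬(n = 3 ∧ q = 2)) : IsSimpleGroup (Cfsg.PSU n F q) := by
  classical
  have hperf := commutator_eq_top hstar hF hn hex
  have htop : HasTrans hstar (⊤ : Subgroup (Cfsg.SU n F q)) := fun _ _ _ _ => trivial
  let i0 : Fin n := ⟨0, by omega⟩
  let j0 : Fin n := ⟨1, by omega⟩
  let k0 : Fin n := ⟨2, by omega⟩
  obtain ⟨e, f, P⟩ := exists_pair hstar hF (i := i0) (j := j0) (by simp [i0, j0, Fin.ext_iff])
  have hk : k0 ∈ (Finset.univ : Finset (Fin n)) \ {i0, j0} := by
    simp [i0, j0, k0, Fin.ext_iff]
  have he0 : e ≠ 0 := fun h => by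
    have := P.ef
    rw [h, herm_zero_left] at this
    exact zero_ne_one this
  have key : ∀ N : Subgroup (Cfsg.SU n F q), N.Normal →
      N ≤ Subgroup.center (Cfsg.SU n F q) ∨ N = ⊤ := by
    intro N hN
    by_cases hle : N ≤ lineFix q he0
    · left
      intro g hg
      refine mem_center_of_fixes_lines hstar hF hn fun v hv0 hv => ?_
      obtain ⟨x, -, -, hx⟩ := moves_to_e hF htop P (Finset.mem_univ _) (Finset.mem_univ _) hk hv0 hv
        (fun m hm => absurd (Finset.mem_univ m) hm)
      obtain ⟨c, hc⟩ := hle (hN.conj_mem g hg x)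
      refine ⟨c, act_injective x ?_⟩
      rw [act_smul, hx]
      rw [act_mul, act_mul] at hc
      rwa [← hx, act_inv_act, hx] at hc
    · right
      obtain ⟨g, hgN, hg⟩ := SetLike.not_le_iff_exists.mp hle
      have hmax := lineFix_maximal hstar hF hex P he0 hk
        (M := N ⊔ lineFix q he0) le_sup_right
        (le_sup_left (b := lineFix q he0) hgN) hg
      let T : Subgroup (Cfsg.SU n F q) := Subgroup.closure
        {x | ∃ (t : F) (ht : star t = -t), x = trans hstar e P.ee t ht}
      have hT : T.carrier = T.carrier := rfl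
      have hdecomp : ∀ x : Cfsg.SU n F q, ∃ a ∈ N, ∃ p ∈ lineFix q he0, a * p = x := fun x => by
        have : x ∈ ((N ⊔ lineFix q he0 : Subgroup (Cfsg.SU n F q)) : Set (Cfsg.SU n F q)) := by
          rw [hmax]; trivial
        rw [Subgroup.normal_mul] at this
        obtain ⟨a, ha, p, hp, rfl⟩ := this
        exact ⟨a, ha, p, hp, rfl⟩
      have hconj : ∀ x : Cfsg.SU n F q, ∀ t ∈ T, x * t * x⁻¹ ∈ N ⊔ T := by
        intro x
        have hle' : T ≤ (N ⊔ T).comap (MulAut.conj x).toMonoidHom := by
          rw [Subgroup.closure_le]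
          rintro _ ⟨t, ht, rfl⟩
          obtain ⟨a, ha, p, ⟨c, hc⟩, rfl⟩ := hdecomp x
          change a * p * trans hstar e P.ee t ht * (a * p)⁻¹ ∈ N ⊔ T
          rw [show a * p * trans hstar e P.ee t ht * (a * p)⁻¹ =
            a * (p * trans hstar e P.ee t ht * p⁻¹) * a⁻¹ by group,
            conj_trans_scale hstar p e P.ee hc]
          refine mul_mem (mul_mem (Subgroup.mem_sup_left ha) (Subgroup.mem_sup_right ?_))
            (Subgroup.mem_sup_left (inv_mem ha))
          exact Subgroup.subset_closure ⟨_, _, rfl⟩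
        exact fun t ht => hle' ht
      have hnorm : (N ⊔ T).Normal := by
        refine ⟨fun y hy x => ?_⟩
        have hle' : N ⊔ T ≤ (N ⊔ T).comap (MulAut.conj x).toMonoidHom :=
          sup_le (fun a ha => Subgroup.mem_sup_left (hN.conj_mem a ha x)) (fun t ht => hconj x t ht)
        exact hle' hy
      have hNT : N ⊔ T = ⊤ := normal_eq_top (hstar := hstar) hF hn hex he0 P.ee
        (hNn := hnorm) fun t ht => Subgroup.mem_sup_right (Subgroup.subset_closure ⟨t, ht, rfl⟩)
      have hTc : ∀ a ∈ T, ∀ b ∈ T, a * b = b * a := by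
        have h1 : T ≤ Subgroup.centralizer (T : Set (Cfsg.SU n F q)) := by
          rw [Subgroup.closure_le]
          intro x hx
          rw [SetLike.mem_coe, Subgroup.centralizer_closure, Subgroup.mem_centralizer_iff]
          obtain ⟨t, ht, rfl⟩ := hx
          rintro _ ⟨s, hs, rfl⟩
          rw [← trans_add, ← trans_add]
          apply Subtype.ext
          apply Subtype.ext
          change transMat e (s + t) = transMat e (t + s)
          rw [add_comm]
        exact fun a ha b hb => (Subgroup.mem_centralizer_iff.mp (h1 ha) b hb).symm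
      rw [eq_top_iff, ← hperf, commutator_eq_closure, Subgroup.closure_le]
      rintro _ ⟨a, b, rfl⟩
      have hrep : ∀ x : Cfsg.SU n F q,
          ∃ t ∈ T, (QuotientGroup.mk' N) t = (QuotientGroup.mk' N) x := fun x => by
        have hx : x ∈ ((N ⊔ T : Subgroup (Cfsg.SU n F q)) : Set (Cfsg.SU n F q)) := by
          rw [hNT]; trivial
        rw [Subgroup.normal_mul] at hx
        obtain ⟨m, hm, t, ht, rfl⟩ := hx
        refine ⟨t, ht, ?_⟩
        change (QuotientGroup.mk' N) t = (QuotientGroup.mk' N) (m * t)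
        rw [map_mul, show (QuotientGroup.mk' N) m = 1 from (QuotientGroup.eq_one_iff m).mpr hm,
          one_mul]
      obtain ⟨s, hs, hsa⟩ := hrep a
      obtain ⟨t, ht, htb⟩ := hrep b
      rw [SetLike.mem_coe, ← QuotientGroup.eq_one_iff, ← QuotientGroup.mk'_apply,
        map_commutatorElement, ← hsa, ← htb, ← map_commutatorElement, commutatorElement_def,
        hTc s hs t ht]
      simp
  have hcne : Subgroup.center (Cfsg.SU n F q) ≠ ⊤ := by
    intro h
    have h2 : commutator (Cfsg.SU n F q) = ⊥ := by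
      rw [commutator_def, Subgroup.commutator_eq_bot_iff_le_centralizer]
      intro x _
      rw [Subgroup.mem_centralizer_iff]
      intro y _
      exact Subgroup.mem_center_iff.mp (h ▸ Subgroup.mem_top x) y
    rw [hperf] at h2
    obtain ⟨θ, hθ0, hθ⟩ := exists_skew hstar hF
    have h3 : trans hstar e P.ee θ hθ = 1 := Subgroup.mem_bot.mp (h2 ▸ Subgroup.mem_top _)
    have h4 := congrArg (fun x => act x f) h3
    simp only [act_trans, act_one, P.ef, mul_one] at h4
    exact he0 ((smul_eq_zero.mp (add_eq_left.mp h4)).resolve_left hθ0)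
  refine @IsSimpleGroup.mk _ _ ?_ ?_
  · obtain ⟨x, hx⟩ := SetLike.exists_not_mem_of_ne_top _ hcne
    exact ⟨QuotientGroup.mk x, 1, fun h => hx ((QuotientGroup.eq_one_iff x).mp h)⟩
  · intro H hH
    have hsurj := QuotientGroup.mk'_surjective (Subgroup.center (Cfsg.SU n F q))
    rcases key (H.comap (QuotientGroup.mk' _)) (hH.comap _) with h | h
    · left
      rw [eq_bot_iff]
      intro y hy
      obtain ⟨x, rfl⟩ := hsurj y
      exact Subgroup.mem_bot.mpr ((QuotientGroup.eq_one_iff x).mpr (h hy))
    · right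
      rw [eq_top_iff]
      intro y _
      obtain ⟨x, rfl⟩ := hsurj y
      have h1 : x ∈ H.comap (QuotientGroup.mk' (Subgroup.center (Cfsg.SU n F q))) :=
        h ▸ Subgroup.mem_top x
      exact h1

end Cfsg.Agent.Small.Unitary
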