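import Mathlib
import Cfsg.Agent.Lib.Small.Unitary.Generation

/-!
Eichler elements of `SU_n(q)` at an isotropic vector, written without a choice of complement, and
the stabiliser of an isotropic vector of a hyperbolic pair.
-/

set_option autoImplicit false
set_option linter.unusedSectionVars false

namespace Cfsg.Agent.Small.Unitary

open Matrix

variable {F : Type*} [Field F] [Fintype F] [StarRing F] {n q : ℕ}

theorem ext_mulVec {m : Type*} [Fintype m] {A B : Matrix m m F}
    (h : ∀ x, A *ᵥ x = B *ᵥ x) : A = B := by
  classical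
  ext i k
  have := congrFun (h (Pi.single k 1)) i
  simpa using this

theorem eq_of_act {g h : Cfsg.SU n F q} (hgh : ∀ x, act g x = act h x) : g = h :=
  Subtype.ext (Subtype.ext (ext_mulVec hgh))

/-- The matrix of `x ↦ x + ⟨e,x⟩ z + (a ⟨e,x⟩ - ⟨z,x⟩) e`. -/
def eMat (e z : Fin n → F) (a : F) : Matrix (Fin n) (Fin n) F :=
  1 + Matrix.vecMulVec z (star e) + a • Matrix.vecMulVec e (star e) - Matrix.vecMulVec e (star z)

theorem eMat_mulVec (e z : Fin n → F) (a : F) (x : Fin n → F) :
    eMat e z a *ᵥ x = x + herm e x • z + (a * herm e x - herm z x) • e := by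
  rw [eMat, Matrix.sub_mulVec, Matrix.add_mulVec, Matrix.add_mulVec, Matrix.one_mulVec,
    Matrix.smul_mulVec, Matrix.vecMulVec_mulVec, Matrix.vecMulVec_mulVec, Matrix.vecMulVec_mulVec]
  funext i
  simp [herm]
  ring

theorem eMat_zero (e : Fin n → F) : eMat e 0 0 = 1 := by
  apply ext_mulVec
  intro x
  simp [eMat_mulVec, herm_zero_left]

theorem eMat_mul {e z w : Fin n → F} (a b : F) (hee : herm e e = 0) (hez : herm e z = 0)
    (hew : herm e w = 0) :
    eMat e z a * eMat e w b = eMat e (z + w) (a + b - herm z w) := by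
  apply ext_mulVec
  intro x
  have hze : herm z e = 0 := by rw [← star_herm, hez, star_zero]
  rw [← Matrix.mulVec_mulVec, eMat_mulVec, eMat_mulVec, eMat_mulVec]
  simp only [herm_add_left, herm_add_right, herm_smul_right, hee, hew, hze]
  module

theorem eMat_conjTranspose (e z : Fin n → F) (a : F) :
    (eMat e z a)ᴴ = eMat e (-z) (star a) := by
  ext i k
  simp [eMat, Matrix.vecMulVec_apply, Matrix.one_apply, eq_comm, apply_ite star]
  ring

theorem eMat_det {e z : Fin n → F} (a : F) (hee : herm e e = 0) (hez : herm e z = 0) :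
    (eMat e z a).det = 1 := by
  let A : Matrix (Fin n) (Fin 2) F := Matrix.of fun m r => (![z, e] r : Fin n → F) m
  let B : Matrix (Fin 2) (Fin n) F :=
    Matrix.of fun r m => (![star e, a • star e - star z] r : Fin n → F) m
  have hAB : eMat e z a = 1 + A * B := by
    ext i k
    simp [eMat, A, B, Matrix.mul_apply, Fin.sum_univ_two, Matrix.vecMulVec_apply]
    ring
  have hze : herm z e = 0 := by rw [← star_herm, hez, star_zero]
  have hBA : B * A = !![0, 0; -herm z z, 0] := by
    ext r s
    have h0 : (B * A) r s =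
        (![star e, a • star e - star z] r : Fin n → F) ⬝ᵥ (![z, e] s : Fin n → F) := rfl
    rw [h0]
    fin_cases r <;> fin_cases s <;>
      simp [sub_dotProduct, smul_dotProduct] <;>
      simp only [← herm.eq_def, hee, hez, hze] <;> simp
  rw [hAB, Matrix.det_one_add_mul_comm, hBA]
  simp [Matrix.det_fin_two]

/-- The parameters of an Eichler element. -/
def EOk (e z : Fin n → F) (a : F) : Prop :=
  herm e e = 0 ∧ herm e z = 0 ∧ a + star a + herm z z = 0

open Classical in
/-- The Eichler element, `1` for bad parameters. -/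
noncomputable def eich (hstar : ∀ x : F, star x = x ^ q) (e z : Fin n → F) (a : F) :
    Cfsg.SU n F q :=
  if h : EOk e z a then
    mkSU hstar (eMat e z a)
      (by
        have hm : herm e (-z) = 0 := by rw [← neg_one_smul F z, herm_smul_right, h.2.1, mul_zero]
        rw [eMat_conjTranspose, eMat_mul _ _ h.1 hm h.2.1, neg_add_cancel,
          show star a + a - herm (-z) z = a + star a + herm z z by
            rw [← neg_one_smul F z, herm_smul_left]; simp; ring,
          h.2.2, eMat_zero])
      (eMat_det a h.1 h.2.1)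
  else 1

variable (hstar : ∀ x : F, star x = x ^ q)

theorem eich_val {e z : Fin n → F} {a : F} (h : EOk e z a) :
    (eich hstar e z a).1.1 = eMat e z a := by
  rw [eich, dif_pos h]; rfl

theorem act_eich {e z : Fin n → F} {a : F} (h : EOk e z a) (x : Fin n → F) :
    act (eich hstar e z a) x = x + herm e x • z + (a * herm e x - herm z x) • e := by
  rw [act, eich_val hstar h, eMat_mulVec]

theorem act_eich_self {e z : Fin n → F} {a : F} (h : EOk e z a) :
    act (eich hstar e z a) e = e := by
  have hze : herm z e = 0 := by rw [← star_herm, h.2.1, star_zero]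
  rw [act_eich hstar h, h.1, hze]
  simp

theorem EOk.add {e z w : Fin n → F} {a b : F} (h : EOk e z a) (h' : EOk e w b) :
    EOk e (z + w) (a + b - herm z w) := by
  refine ⟨h.1, by rw [herm_add_right, h.2.1, h'.2.1, add_zero], ?_⟩
  rw [star_sub, star_add, star_herm]
  simp only [herm_add_left, herm_add_right]
  linear_combination h.2.2 + h'.2.2

theorem eich_mul {e z w : Fin n → F} {a b : F} (h : EOk e z a) (h' : EOk e w b) :
    eich hstar e z a * eich hstar e w b = eich hstar e (z + w) (a + b - herm z w) := by
  apply Subtype.ext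
  apply Subtype.ext
  change (eich hstar e z a).1.1 * (eich hstar e w b).1.1 = (eich hstar e _ _).1.1
  rw [eich_val hstar h, eich_val hstar h', eich_val hstar (h.add h'), eMat_mul _ _ h.1 h.2.1 h'.2.1]

theorem EOk_zero_iff {e : Fin n → F} (hee : herm e e = 0) {t : F} :
    EOk e 0 t ↔ star t = -t := by
  refine ⟨fun h => ?_, fun h => ⟨hee, herm_zero_right e, ?_⟩⟩
  · have := h.2.2
    rw [herm_zero_left, add_zero] at this
    linear_combination this
  · rw [h, herm_zero_left, add_zero, add_neg_cancel]

theorem eich_zero_zero {e : Fin n → F} (hee : herm e e = 0) : eich hstar e 0 0 = 1 := by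
  apply Subtype.ext
  apply Subtype.ext
  rw [eich_val hstar ((EOk_zero_iff hee).mpr (by simp)), eMat_zero]
  rfl

theorem trans_eq_eich {e : Fin n → F} (hee : herm e e = 0) {t : F} (ht : star t = -t) :
    trans hstar e hee t ht = eich hstar e 0 t := by
  apply eq_of_act
  intro x
  rw [act_trans, act_eich hstar ((EOk_zero_iff hee).mpr ht), herm_zero_left]
  simp

theorem act_eich_zero {e : Fin n → F} (hee : herm e e = 0) {t : F} (ht : star t = -t)
    (x : Fin n → F) : act (eich hstar e 0 t) x = x + (t * herm e x) • e := by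
  rw [← trans_eq_eich hstar hee ht, act_trans]

include hstar in
theorem EOk.act {e z : Fin n → F} {a : F} (h : EOk e z a) (g : Cfsg.SU n F q) :
    EOk (Unitary.act g e) (Unitary.act g z) a := by
  refine ⟨?_, ?_, ?_⟩ <;> simp only [herm_act hstar]
  exacts [h.1, h.2.1, h.2.2]

theorem eich_conj (g : Cfsg.SU n F q) {e z : Fin n → F} {a : F} (h : EOk e z a) :
    g * eich hstar e z a * g⁻¹ = eich hstar (act g e) (act g z) a := by
  rw [mul_inv_eq_iff_eq_mul]
  apply eq_of_act
  intro x
  rw [act_mul, act_mul, act_eich hstar h, act_eich hstar (h.act hstar g)]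
  simp only [act_add, act_smul, herm_act hstar]

theorem EOk.smul {e z : Fin n → F} {a : F} (c : F) (h : EOk (c • e) z a) (hc : c ≠ 0) :
    EOk e (star c • z) (star c * c * a) := by
  obtain ⟨h1, h2, h3⟩ := h
  simp only [herm_smul_left, herm_smul_right] at h1 h2
  have hcs : star c ≠ 0 := star_ne_zero.mpr hc
  have h1' : herm e e = 0 := by simpa [hc, hcs] using h1
  have h2' : herm e z = 0 := by simpa [hcs] using h2
  refine ⟨h1', by rw [herm_smul_right, h2', mul_zero], ?_⟩
  rw [herm_smul_left, herm_smul_right, star_mul', star_mul', star_star]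
  linear_combination (c * star c) * h3

theorem eich_smul {e z : Fin n → F} {a : F} {c : F} (h : EOk (c • e) z a) (hc : c ≠ 0) :
    eich hstar (c • e) z a = eich hstar e (star c • z) (star c * c * a) := by
  apply eq_of_act
  intro x
  rw [act_eich hstar h, act_eich hstar (h.smul c hc)]
  simp only [herm_smul_left, star_star]
  module

theorem EOk.shift {e z : Fin n → F} {a : F} (r : F) (h : EOk e z a) :
    EOk e (z + r • e) a := by
  have hze : herm z e = 0 := by rw [← star_herm, h.2.1, star_zero]
  refine ⟨h.1, by rw [herm_add_right, herm_smul_right, h.1, h.2.1]; ring, ?_⟩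
  simp only [herm_add_left, herm_add_right, herm_smul_left, herm_smul_right, h.1, h.2.1, hze]
  linear_combination h.2.2

theorem eich_shift {e z : Fin n → F} {a : F} (r : F) (h : EOk e z a) :
    eich hstar e (z + r • e) a = eich hstar e z (a + r - star r) := by
  have hze : herm z e = 0 := by rw [← star_herm, h.2.1, star_zero]
  have h1 : EOk e (z + r • e) a := h.shift r
  have h2 : EOk e z (a + r - star r) := ⟨h.1, h.2.1, by
    rw [star_sub, star_add, star_star]; linear_combination h.2.2⟩
  apply eq_of_act
  intro x
  rw [act_eich hstar h1, act_eich hstar h2]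
  simp only [herm_add_left, herm_smul_left]
  module

include hstar in
theorem exists_param (hF : Fintype.card F = q ^ 2) {e z : Fin n → F}
    (hee : herm e e = 0) (hez : herm e z = 0) : ∃ a, EOk e z a := by
  obtain ⟨a, ha⟩ := exists_trace hstar hF (r := -herm z z) (by rw [star_neg, star_herm])
  exact ⟨a, hee, hez, by rw [ha, neg_add_cancel]⟩

/-- Equal Eichler elements along a pair have equal parameters. -/
theorem eich_inj {e f z w : Fin n → F} {a b : F} (hef : herm e f = 1) (hfz : herm f z = 0)
    (hfw : herm f w = 0) (h : EOk e z a) (h' : EOk e w b)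
    (heq : eich hstar e z a = eich hstar e w b) : z = w ∧ a = b := by
  have hzf : herm z f = 0 := by rw [← star_herm, hfz, star_zero]
  have hwf : herm w f = 0 := by rw [← star_herm, hfw, star_zero]
  have h1 := congrArg (fun g => act g f) heq
  simp only [act_eich hstar h, act_eich hstar h', hef, hzf, hwf, one_smul, mul_one, sub_zero] at h1
  rw [add_assoc, add_assoc, add_right_inj] at h1
  have hfe : herm f e = 1 := by rw [← star_herm, hef, star_one]
  have h2 := congrArg (herm f) h1
  simp only [herm_add_right, herm_smul_right, hfz, hfw, hfe, zero_add, mul_one] at h2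
  subst h2
  exact ⟨add_right_cancel h1, rfl⟩

/-! ### The complement of a pair -/

/-- The vectors supported off `i`, `j`. -/
def Wsub (i j : Fin n) : Submodule F (Fin n → F) where
  carrier := {z | z i = 0 ∧ z j = 0}
  add_mem' h h' := ⟨by simp [h.1, h'.1], by simp [h.2, h'.2]⟩
  zero_mem' := ⟨rfl, rfl⟩
  smul_mem' c z h := ⟨by simp [h.1], by simp [h.2]⟩

theorem mem_Wsub {i j : Fin n} {z : Fin n → F} : z ∈ Wsub i j ↔ z i = 0 ∧ z j = 0 := Iff.rfl

theorem supp_of_mem {i j : Fin n} {z : Fin n → F} (hz : z ∈ Wsub i j) :
    Supp (Finset.univ \ {i, j}) z := fun k hk => by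
  simp only [Finset.mem_sdiff, Finset.mem_univ, Finset.mem_insert, Finset.mem_singleton, true_and,
    not_not] at hk
  rcases hk with rfl | rfl
  exacts [hz.1, hz.2]

variable {i j : Fin n} {e f : Fin n → F}

theorem Pair.herm_W (P : Pair i j e f) {z : Fin n → F} (hz : z ∈ Wsub i j) :
    herm e z = 0 ∧ herm f z = 0 :=
  P.perp (supp_of_mem hz)

theorem Pair.W_herm (P : Pair i j e f) {z : Fin n → F} (hz : z ∈ Wsub i j) :
    herm z e = 0 ∧ herm z f = 0 := by
  obtain ⟨h1, h2⟩ := P.herm_W hz
  constructor <;> rw [← star_herm]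
  · rw [h1, star_zero]
  · rw [h2, star_zero]

/-- The projection to the complement of the pair. -/
def projW (e f v : Fin n → F) : Fin n → F := v - herm f v • e - herm e v • f

theorem Pair.projW_mem (P : Pair i j e f) (v : Fin n → F) : projW e f v ∈ Wsub i j := by
  have h := P.decompose (I := Finset.univ) (Finset.mem_univ i) (Finset.mem_univ j)
    (v := v) (fun m hm => absurd (Finset.mem_univ m) hm)
  exact ⟨h i (by simp), h j (by simp)⟩

theorem eq_projW_add (e f v : Fin n → F) : v = herm f v • e + herm e v • f + projW e f v := by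
  rw [projW]; abel

theorem Pair.eq_one_of_fix (P : Pair i j e f) {g : Cfsg.SU n F q} (he : act g e = e)
    (hf : act g f = f) (hW : ∀ z ∈ Wsub i j, act g z = z) : g = 1 := by
  apply eq_of_act
  intro v
  rw [act_one]
  conv_lhs => rw [eq_projW_add e f v]
  rw [act_add, act_add, act_smul, act_smul, he, hf, hW _ (P.projW_mem v), ← eq_projW_add]

/-- An element fixing `e` is an Eichler element times one fixing the pair. -/
theorem Pair.stab_decomp (P : Pair i j e f) {g : Cfsg.SU n F q} (he : act g e = e) :
    ∃ z a, z ∈ Wsub i j ∧ EOk e z a ∧ ∃ m : Cfsg.SU n F q, g = eich hstar e z a * m ∧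
      act m e = e ∧ act m f = f ∧ ∀ w ∈ Wsub i j, act m w ∈ Wsub i j := by
  set u := act g f with hu
  have hev : herm e u = 1 := by
    have := herm_act hstar g e f
    rwa [he, P.ef] at this
  set z := projW e f u with hz
  have hzW : z ∈ Wsub i j := P.projW_mem u
  have hueq : u = herm f u • e + f + z := by
    conv_lhs => rw [eq_projW_add e f u, hev, one_smul]
  have hok : EOk e z (herm f u) := by
    refine ⟨P.ee, (P.herm_W hzW).1, ?_⟩
    have h1 : herm u u = 0 := by rw [hu, herm_act hstar]; exact P.ff
    rw [hueq] at h1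
    simp only [herm_add_left, herm_add_right, herm_smul_left, herm_smul_right, P.ee, P.ff, P.ef,
      P.fe, (P.herm_W hzW).1, (P.herm_W hzW).2, (P.W_herm hzW).1, (P.W_herm hzW).2] at h1
    linear_combination h1
  set m := (eich hstar e z (herm f u))⁻¹ * g with hm
  have hge : g = eich hstar e z (herm f u) * m := by rw [hm, mul_inv_cancel_left]
  have hme : act m e = e := by
    apply act_injective (eich hstar e z (herm f u))
    rw [← act_mul, ← hge, he, act_eich_self hstar hok]
  have hmf : act m f = f := by
    apply act_injective (eich hstar e z (herm f u))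
    rw [← act_mul, ← hge, act_eich hstar hok, ← hu, P.ef, (P.W_herm hzW).2]
    conv_lhs => rw [hueq]
    module
  refine ⟨z, _, hzW, hok, m, hge, hme, hmf, fun w hw => ?_⟩
  apply P.zero
  · rw [← hme, herm_act hstar]; exact (P.herm_W hw).1
  · rw [← hmf, herm_act hstar]; exact (P.herm_W hw).2

/-- An element fixing `e` and acting trivially on `e^⊥ / e` is an Eichler element. -/
theorem Pair.eich_of_trivial (P : Pair i j e f) {g : Cfsg.SU n F q} (he : act g e = e)
    (hW : ∀ w ∈ Wsub i j, ∃ c : F, act g w = w + c • e) :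
    ∃ z a, z ∈ Wsub i j ∧ EOk e z a ∧ g = eich hstar e z a := by
  obtain ⟨z, a, hz, hok, m, rfl, hme, hmf, hmW⟩ := P.stab_decomp hstar he
  refine ⟨z, a, hz, hok, ?_⟩
  have : m = 1 := by
    refine P.eq_one_of_fix hme hmf fun w hw => ?_
    obtain ⟨c, hc⟩ := hW w hw
    rw [act_mul, act_eich hstar hok, (P.herm_W (hmW w hw)).1, zero_smul, add_zero, mul_zero,
      zero_sub] at hc
    set k := -herm z (act m w) with hk
    have h1 : act m w - w = (c - k) • e := by
      rw [sub_smul, sub_eq_iff_eq_add', ← add_sub_assoc, ← hc, add_sub_cancel_right]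
    have h2 := congrArg (herm f) h1
    rw [herm_sub_right, (P.herm_W (hmW w hw)).2, (P.herm_W hw).2, herm_smul_right, P.fe, sub_zero,
      mul_one] at h2
    rwa [← h2, zero_smul, sub_eq_zero] at h1
  rw [this, mul_one]

end Cfsg.Agent.Small.Unitary
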